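import Mathlib
import Cfsg.Agent.Lib.Invol.Dihedral

/-!
# Conjugation invariant sets of involutions with products of order 1, 2 or a prime `p ≥ 5`

Midpoints, the elementary uniqueness lemma, and the configuration of four members attached to a
commuting pair.
-/

set_option autoImplicit false

namespace CfsgLib.RankThreeClass

variable {G : Type*} [Group G]

/-- A conjugation invariant set of involutions in which two members commute or have a product of
order `p`, for a fixed prime `p ≥ 5`. -/
structure PSet (p : ℕ) (D : Set G) : Prop where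
  prime : p.Prime
  five : 5 ≤ p
  inv : ∀ d ∈ D, orderOf d = 2
  conj : ∀ g : G, ∀ d ∈ D, g * d * g⁻¹ ∈ D
  dich : ∀ a ∈ D, ∀ b ∈ D, Commute a b ∨ orderOf (a * b) = p

/-- `y` commutes with its image under the product of the commuting pair `x`, `z`, in the form
"the images of `y` under `x` and under `z` commute". -/
def Star (D : Set G) : Prop :=
  ∀ x ∈ D, ∀ z ∈ D, ∀ y ∈ D, Commute x z → x ≠ z → ¬ Commute y x → ¬ Commute y z →
    Commute (x * y * x) (z * y * z)

theorem commute_conj {a b : G} (h : Commute a b) (g : G) :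
    Commute (g * a * g⁻¹) (g * b * g⁻¹) := by
  show g * a * g⁻¹ * (g * b * g⁻¹) = g * b * g⁻¹ * (g * a * g⁻¹)
  rw [conj_mul, conj_mul, h.eq]

theorem commute_conj_iff {a b : G} (g : G) :
    Commute (g * a * g⁻¹) (g * b * g⁻¹) ↔ Commute a b := by
  refine ⟨fun h => ?_, fun h => commute_conj h g⟩
  have := commute_conj h g⁻¹
  simpa [mul_assoc] using this

namespace PSet

variable {p : ℕ} {D : Set G} (hD : PSet p D)
include hD

theorem sq {a : G} (ha : a ∈ D) : a * a = 1 := Invol.mul_self_of_orderOf_two (hD.inv a ha)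

theorem inv_eq {a : G} (ha : a ∈ D) : a⁻¹ = a := Invol.inv_of_orderOf_two (hD.inv a ha)

theorem cancel {a : G} (ha : a ∈ D) (w : G) : a * (a * w) = w := by
  rw [← mul_assoc, hD.sq ha, one_mul]

theorem ne_one {a : G} (ha : a ∈ D) : a ≠ 1 := Invol.ne_one_of_orderOf_two (hD.inv a ha)

theorem mem_self {a b : G} (ha : a ∈ D) (hb : b ∈ D) : a * b * a ∈ D := by
  have := hD.conj a b hb
  rwa [hD.inv_eq ha] at this

theorem odd_p : Odd p := hD.prime.odd_of_ne_two (by have := hD.five; omega)

theorem orderOf_eq {a b : G} (ha : a ∈ D) (hb : b ∈ D) (h : ¬ Commute a b) :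
    orderOf (a * b) = p :=
  (hD.dich a ha b hb).resolve_left h

theorem pow_p {a b : G} (ha : a ∈ D) (hb : b ∈ D) (h : ¬ Commute a b) : (a * b) ^ p = 1 := by
  rw [← hD.orderOf_eq ha hb h, pow_orderOf_eq_one]

theorem dvd_of_pow {a b : G} (ha : a ∈ D) (hb : b ∈ D) (h : ¬ Commute a b) {n : ℕ}
    (hn : (a * b) ^ n = 1) : p ∣ n :=
  hD.orderOf_eq ha hb h ▸ orderOf_dvd_of_pow_eq_one hn

omit hD in
theorem pow_two_of_commute {a b : G} (h : Commute a b) (ha : a * a = 1) (hb : b * b = 1) :
    (a * b) ^ 2 = 1 := by rw [h.mul_pow, pow_two, pow_two, ha, hb, one_mul]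

theorem conj_eq_iff {a : G} (ha : a ∈ D) (b : G) : a * b * a = b ↔ Commute a b := by
  constructor
  · intro h
    show a * b = b * a
    calc a * b = a * b * (a * a) := by rw [hD.sq ha, mul_one]
      _ = a * b * a * a := by simp only [mul_assoc]
      _ = b * a := by rw [h]
  · intro h
    rw [h.eq, mul_assoc, hD.sq ha, mul_one]

/-- The members of the dihedral group of two members are members. -/
theorem refl_mem {a b : G} (ha : a ∈ D) (hb : b ∈ D) : ∀ n : ℕ, a * (a * b) ^ n ∈ D := by
  intro n
  induction n using Nat.twoStepInduction with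
  | zero => simpa using ha
  | one => rw [pow_one, hD.cancel ha]; exact hb
  | more n h _ =>
    have := hD.conj (a * b)⁻¹ _ h
    rw [inv_inv, mul_inv_rev, hD.inv_eq ha, hD.inv_eq hb] at this
    convert this using 1
    rw [pow_succ, pow_succ']
    simp only [mul_assoc, hD.cancel ha]

theorem pow_half {a b : G} (ha : a ∈ D) (hb : b ∈ D) (h : ¬ Commute a b) :
    ((a * b) ^ 2) ^ ((p + 1) / 2) = a * b := by
  obtain ⟨k, hk⟩ := hD.odd_p
  rw [← pow_mul, show 2 * ((p + 1) / 2) = p + 1 by omega, pow_succ, hD.pow_p ha hb h, one_mul]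

/-- The member conjugating `a` to a given noncommuting member is unique. -/
theorem unique {a c c' : G} (ha : a ∈ D) (hc : c ∈ D) (hc' : c' ∈ D) (hac : ¬ Commute a c)
    (h : c * a * c = c' * a * c') : c = c' := by
  have hac' : ¬ Commute a c' := by
    intro hh
    apply hac
    rw [(hD.conj_eq_iff hc' a).mpr hh.symm] at h
    exact ((hD.conj_eq_iff hc a).mp h).symm
  have e : (a * c) ^ 2 = (a * c') ^ 2 := by
    rw [pow_two, pow_two]
    calc a * c * (a * c) = a * (c * a * c) := by simp only [mul_assoc]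
      _ = a * c' * (a * c') := by rw [h]; simp only [mul_assoc]
  have := hD.pow_half ha hc hac
  rw [e, hD.pow_half ha hc' hac'] at this
  exact (mul_left_cancel this).symm

theorem conj_ne_conj {x z y : G} (hx : x ∈ D) (hz : z ∈ D) (hy : y ∈ D) (hne : x ≠ z)
    (h : ¬ Commute y x) : x * y * x ≠ z * y * z :=
  fun e => hne (hD.unique hy hx hz h e)

/-- A member fixes only members commuting with it. -/
theorem commute_of_commute_conj {a b : G} (ha : a ∈ D) (hb : b ∈ D)
    (h : Commute (a * b * a) b) : Commute a b := by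
  by_contra hn
  have e : (a * b) ^ 4 = 1 := by
    rw [show (4 : ℕ) = 2 * 2 from rfl, pow_mul, pow_two (a * b), ← mul_assoc,
      pow_two_of_commute h (hD.sq (hD.mem_self ha hb)) (hD.sq hb)]
  have := Nat.le_of_dvd (by norm_num) (hD.dvd_of_pow ha hb hn e)
  have := hD.five
  omega

theorem not_commute_conj {a b : G} (ha : a ∈ D) (hb : b ∈ D) (h : ¬ Commute a b) :
    ¬ Commute (a * b * a) b := fun hh => h (hD.commute_of_commute_conj ha hb hh)

theorem exists_mid {a b : G} (ha : a ∈ D) (hb : b ∈ D) (h : ¬ Commute a b) :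
    ∃ c ∈ D, c * a * c = b := by
  refine ⟨a * (a * b) ^ ((p + 1) / 2), hD.refl_mem ha hb _, ?_⟩
  calc a * (a * b) ^ ((p + 1) / 2) * a * (a * (a * b) ^ ((p + 1) / 2))
      = a * ((a * b) ^ ((p + 1) / 2) * (a * b) ^ ((p + 1) / 2)) := by
        simp only [mul_assoc, hD.cancel ha]
    _ = a * ((a * b) ^ 2) ^ ((p + 1) / 2) := by rw [← pow_mul, ← pow_add]; congr 2; omega
    _ = b := by rw [hD.pow_half ha hb h, hD.cancel ha]

theorem isConj {a b : G} (ha : a ∈ D) (hb : b ∈ D) (h : ¬ Commute a b) : IsConj a b := by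
  obtain ⟨c, hc, e⟩ := hD.exists_mid ha hb h
  exact isConj_iff.mpr ⟨c, by rw [hD.inv_eq hc]; exact e⟩

/-- A member conjugating `a` to `b` commutes with everything commuting with `a` and `b`. -/
theorem mid_commute_common {a b c s : G} (ha : a ∈ D) (hb : b ∈ D) (hc : c ∈ D)
    (hab : ¬ Commute a b) (e : c * a * c = b) (hsa : Commute s a) (hsb : Commute s b) :
    Commute s c := by
  have hca : ¬ Commute a c := by
    intro hh
    rw [(hD.conj_eq_iff hc a).mpr hh.symm] at e
    exact hab (e ▸ Commute.refl a)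
  have hc0 : a * (a * b) ^ ((p + 1) / 2) = c := by
    refine (hD.unique ha hc (hD.refl_mem ha hb _) hca ?_).symm
    rw [e]
    symm
    calc a * (a * b) ^ ((p + 1) / 2) * a * (a * (a * b) ^ ((p + 1) / 2))
        = a * ((a * b) ^ ((p + 1) / 2) * (a * b) ^ ((p + 1) / 2)) := by
          simp only [mul_assoc, hD.cancel ha]
      _ = a * ((a * b) ^ 2) ^ ((p + 1) / 2) := by rw [← pow_mul, ← pow_add]; congr 2; omega
      _ = b := by rw [hD.pow_half ha hb hab, hD.cancel ha]
  rw [← hc0]
  exact hsa.mul_right ((hsa.mul_right hsb).pow_right _)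

/-- A member commuting with the product of a commuting pair commutes with both. -/
theorem commute_of_commute_mul {s b c : G} (hs : s ∈ D) (hb : b ∈ D) (hc : c ∈ D)
    (hbc : Commute b c) (hne : b ≠ c) (h : Commute s (b * c)) : Commute s b ∧ Commute s c := by
  have e : c * s * c = b * s * b := by
    calc c * s * c = b * (b * c * s) * c := by simp only [mul_assoc, hD.cancel hb]
      _ = b * (s * (b * c)) * c := by rw [h.eq]
      _ = b * s * b := by simp only [mul_assoc, hD.sq hc, mul_one]
  have h1 : Commute s b := by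
    by_contra hn
    exact hD.conj_ne_conj hb hc hs hne hn e.symm
  rw [(hD.conj_eq_iff hb s).mpr h1.symm] at e
  exact ⟨h1, ((hD.conj_eq_iff hc s).mp e).symm⟩

/-- If a commuting pair moves `y` to a noncommuting conjugate, a third member completes the pair
to a configuration whose product centralizes `y`. -/
theorem exists_quad {x z y : G} (hx : x ∈ D) (hz : z ∈ D) (hy : y ∈ D) (hxz : Commute x z)
    (hne : x ≠ z) (hyx : ¬ Commute y x) (hyz : ¬ Commute y z)
    (hstar : ¬ Commute (x * y * x) (z * y * z)) :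
    ∃ e ∈ D, x ≠ e ∧ z ≠ e ∧ Commute x e ∧ Commute z e ∧ Commute (x * z * e) y := by
  set t := x * z with ht
  have htt : t * t = 1 := by rw [ht, ← pow_two, pow_two_of_commute hxz (hD.sq hx) (hD.sq hz)]
  have hti : t⁻¹ = t := inv_eq_of_mul_eq_one_right htt
  have htc : ∀ w, t * (t * w) = w := fun w => by rw [← mul_assoc, htt, one_mul]
  have hy' : t * y * t ∈ D := by have := hD.conj t y hy; rwa [hti] at this
  have hyy' : ¬ Commute y (t * y * t) := by
    intro hh
    apply hstar
    rw [← commute_conj_iff z, hD.inv_eq hz]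
    convert hh.symm using 1
    · rw [ht]
      calc z * (x * y * x) * z = (z * x) * y * (x * z) := by simp only [mul_assoc]
        _ = _ := by rw [← hxz.eq]
    · simp only [mul_assoc, hD.cancel hz, hD.sq hz, mul_one]
  obtain ⟨e, he, hee⟩ := hD.exists_mid hy hy' hyy'
  have hye : ¬ Commute y e := by
    intro hh
    rw [(hD.conj_eq_iff he y).mpr hh.symm] at hee
    exact hyy' (hee ▸ Commute.refl y)
  have he' : t * e * t ∈ D := by have := hD.conj t e he; rwa [hti] at this
  have hte : t * e * t = e := by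
    refine (hD.unique hy he he' hye ?_).symm
    calc e * y * e = t * y * t := hee
      _ = t * (e * (t * y * t) * e) * t := by
          rw [← hee]; simp only [mul_assoc, hD.cancel he, hD.sq he, mul_one]
          simpa only [mul_assoc] using hee
      _ = t * e * t * y * (t * e * t) := by simp only [mul_assoc]
  have hxe : x * e * x = z * e * z := by
    calc x * e * x = x * (t * e * t) * x := by rw [hte]
      _ = x * (x * z) * e * ((x * z) * x) := by rw [ht]; simp only [mul_assoc]
      _ = z * e * ((z * x) * x) := by rw [hD.cancel hx, hxz.eq]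
      _ = z * e * z := by rw [mul_assoc z x x, hD.sq hx, mul_one]
  have hex : Commute e x := by
    by_contra hn
    exact hD.conj_ne_conj hx hz he hne hn hxe
  have hez : Commute e z := by
    rw [(hD.conj_eq_iff hx e).mpr hex.symm] at hxe
    exact ((hD.conj_eq_iff hz e).mp hxe.symm).symm
  refine ⟨e, he, ?_, ?_, hex.symm, hez.symm, ?_⟩
  · rintro rfl
    have h1 : x * y * x = x * z * y * (z * x) := by
      rw [hee, ht]; simp only [mul_assoc]; rw [hxz.eq]
    apply hyz
    refine ((hD.conj_eq_iff hz y).mp ?_).symm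
    simp only [mul_assoc] at h1
    have h2 := mul_left_cancel h1
    simp only [← mul_assoc] at h2
    exact (mul_right_cancel h2).symm
  · rintro rfl
    have h1 : z * y * z = z * x * y * (x * z) := by
      rw [hee, ht]; simp only [mul_assoc]; rw [← mul_assoc, hxz.eq, mul_assoc]
    apply hyx
    refine ((hD.conj_eq_iff hx y).mp ?_).symm
    simp only [mul_assoc] at h1
    have h2 := mul_left_cancel h1
    simp only [← mul_assoc] at h2
    exact (mul_right_cancel h2).symm
  · show t * e * y = y * (t * e)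
    calc t * e * y = t * (e * y * e) * e := by simp only [mul_assoc, hD.sq he, mul_one]
      _ = y * (t * e) := by rw [hee]; simp only [mul_assoc, htc]

theorem pow_two_pow {a c : G} (ha : a ∈ D) (hc : c ∈ D) :
    ∀ n : ℕ, c * (c * a) ^ 2 ^ (n + 1) =
      c * (c * a) ^ 2 ^ n * c * (c * (c * a) ^ 2 ^ n) := by
  intro n
  have h0 : a * 1 = a := mul_one a
  simp only [mul_assoc, hD.cancel hc]
  rw [← pow_add, ← two_mul, ← pow_succ']

/-- The members conjugating `c` to two commuting members commute. -/
theorem mid_commute (hS : Star D) {a b c e f : G} (ha : a ∈ D) (hb : b ∈ D) (hc : c ∈ D)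
    (he : e ∈ D) (hf : f ∈ D) (hab : Commute a b) (hne : a ≠ b) (hac : ¬ Commute a c)
    (hbc : ¬ Commute b c) (hea : e * c * e = a) (hfb : f * c * f = b) : Commute e f := by
  set P : ℕ → G := fun n => c * (c * a) ^ 2 ^ n with hP
  set Q : ℕ → G := fun n => c * (c * b) ^ 2 ^ n with hQ
  have hPm : ∀ n, P n ∈ D := fun n => hD.refl_mem hc ha _
  have hQm : ∀ n, Q n ∈ D := fun n => hD.refl_mem hc hb _
  have hPs : ∀ n, P (n + 1) = P n * c * P n := hD.pow_two_pow ha hc
  have hQs : ∀ n, Q (n + 1) = Q n * c * Q n := hD.pow_two_pow hb hc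
  have key : ∀ n, ¬ Commute (P n) c ∧ ¬ Commute (Q n) c ∧ Commute (P n) (Q n) ∧ P n ≠ Q n := by
    intro n
    induction n with
    | zero =>
      simp only [hP, hQ, pow_zero, pow_one, hD.cancel hc]
      exact ⟨hac, hbc, hab, hne⟩
    | succ n ih =>
      obtain ⟨h1, h2, h3, h4⟩ := ih
      rw [hPs, hQs]
      exact ⟨hD.not_commute_conj (hPm n) hc h1, hD.not_commute_conj (hQm n) hc h2,
        hS _ (hPm n) _ (hQm n) c hc h3 h4 (fun h => h1 h.symm) (fun h => h2 h.symm),
        hD.conj_ne_conj (hPm n) (hQm n) hc h4 (fun h => h1 h.symm)⟩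
  have hend : ∀ {w : G}, w ∈ D → ¬ Commute c w →
      c * (c * w) ^ 2 ^ (p - 2) * c * (c * (c * w) ^ 2 ^ (p - 2)) = w := by
    intro w hw hn
    rw [← hD.pow_two_pow hw hc, show p - 2 + 1 = p - 1 by have := hD.five; omega]
    have hmod : 2 ^ (p - 1) % p = 1 := by
      have hp := hD.prime
      have h5 := hD.five
      have hcop : Nat.Coprime 2 p :=
        (Nat.coprime_primes Nat.prime_two hp).mpr (by omega)
      have := Nat.ModEq.pow_totient hcop
      rw [Nat.totient_prime hp] at this
      rw [this, Nat.one_mod_eq_one.mpr (by omega)]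
    rw [← pow_mod_orderOf (c * w) (2 ^ (p - 1)), hD.orderOf_eq hc hw hn, hmod, pow_one,
      hD.cancel hc]
  have e1 : e = P (p - 2) := by
    refine hD.unique hc he (hPm _) ?_ ?_
    · intro h
      rw [(hD.conj_eq_iff he c).mpr h.symm] at hea
      exact hac (hea ▸ Commute.refl c)
    · rw [hea]; exact (hend ha fun h => hac h.symm).symm
  have e2 : f = Q (p - 2) := by
    refine hD.unique hc hf (hQm _) ?_ ?_
    · intro h
      rw [(hD.conj_eq_iff hf c).mpr h.symm] at hfb
      exact hbc (hfb ▸ Commute.refl c)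
    · rw [hfb]; exact (hend hb fun h => hbc h.symm).symm
  rw [e1, e2]
  exact (key _).2.2.1

end PSet

end CfsgLib.RankThreeClass
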