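import Cfsg.Agent.Lib.RankThreeClass.Triangles

/-!
# Every class has exactly `p` members
-/

set_option autoImplicit false

namespace CfsgLib.RankThreeClass

variable {G : Type*} [Group G]

open scoped Pointwise in
/-- An element squaring to `1` which normalizes `H` fixes a Sylow subgroup of `H`, if `H` has odd
order. -/
theorem exists_sylow_fixed [Finite G] {H : Subgroup G} (hodd : Odd (Nat.card H)) {J : G}
    (hJ : J * J = 1) (hn : ∀ h ∈ H, J * h * J ∈ H) (r : ℕ) [Fact r.Prime] :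
    ∃ P : Sylow r H, ∀ v : H, v ∈ P → ∃ w : H, w ∈ P ∧ (w : G) = J * v * J := by
  classical
  have : Fact (Nat.Prime 2) := ⟨Nat.prime_two⟩
  have hc : ∀ w : G, J * (J * w) = w := fun w => by rw [← mul_assoc, hJ, one_mul]
  let φ : MulAut H :=
    { toFun := fun h => ⟨J * h * J, hn _ h.2⟩
      invFun := fun h => ⟨J * h * J, hn _ h.2⟩
      left_inv := fun h => Subtype.ext (by simp only [mul_assoc, hc, hJ, mul_one])
      right_inv := fun h => Subtype.ext (by simp only [mul_assoc, hc, hJ, mul_one])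
      map_mul' := fun a b => Subtype.ext (by simp only [Subgroup.coe_mul, mul_assoc, hc]) }
  have hφ : φ ^ 2 = 1 := by
    rw [pow_two]
    ext h
    show J * (J * (h : G) * J) * J = h
    simp only [mul_assoc, hc, hJ, mul_one]
  have hp : IsPGroup 2 (Subgroup.zpowers φ) := fun x => ⟨1, by
    obtain ⟨i, hi⟩ := Subgroup.mem_zpowers_iff.mp x.2
    apply Subtype.ext
    show (x : MulAut H) ^ (2 ^ 1) = 1
    rw [← hi, ← zpow_natCast, ← zpow_mul, mul_comm, zpow_mul, zpow_natCast, pow_one, hφ,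
      one_zpow]⟩
  have hodd' : ¬ 2 ∣ Nat.card (Sylow r H) := by
    obtain ⟨P⟩ := (inferInstance : Nonempty (Sylow r H))
    have hd : Nat.card (Sylow r H) ∣ Nat.card H :=
      P.card_dvd_index.trans (Subgroup.index_dvd_card _)
    exact (hodd.of_dvd_nat hd).not_two_dvd_nat
  obtain ⟨P, hP⟩ := hp.nonempty_fixed_point_of_prime_not_dvd_card (Sylow r H) hodd'
  refine ⟨P, fun v hv => ⟨φ v, ?_, rfl⟩⟩
  have h1 : (⟨φ, Subgroup.mem_zpowers φ⟩ : Subgroup.zpowers φ) • P = P := hP _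
  have h2 : φ • v ∈ φ • (P : Subgroup H) := Subgroup.smul_mem_pointwise_smul v φ _ hv
  have h3 : φ • (P : Subgroup H) = (P : Subgroup H) := congrArg Sylow.toSubgroup h1
  rw [h3] at h2
  exact h2

/-- A prime power one less than a power of `2`, at least `4`, is a prime. -/
theorem exponent_eq_one {p a m : ℕ} (hp : Odd p) (hp1 : 1 < p) (hm : 2 ≤ m)
    (h : p ^ a + 1 = 2 ^ m) : a = 1 := by
  have h4 : 4 ∣ 2 ^ m := (pow_dvd_pow 2 hm)
  rcases Nat.even_or_odd a with ⟨b, rfl⟩ | ⟨b, rfl⟩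
  · obtain ⟨c, hc⟩ := hp.pow (n := b)
    rw [pow_add, hc] at h
    obtain ⟨d, hd⟩ := h4
    rw [hd] at h
    have e : (2 * c + 1) * (2 * c + 1) = 4 * (c * c + c) + 1 := by ring
    omega
  · by_contra hb
    have hb1 : 1 ≤ b := by omega
    have hdvd : p + 1 ∣ p ^ (2 * b + 1) + 1 := by
      have := (odd_two_mul_add_one b).nat_add_dvd_pow_add_pow p 1
      simpa using this
    rw [h] at hdvd
    obtain ⟨j, hj, e⟩ := (Nat.dvd_prime_pow Nat.prime_two).mp hdvd
    have hj1 : 1 ≤ j := by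
      rcases Nat.eq_zero_or_pos j with rfl | h0
      · simp at e; omega
      · exact h0
    have hlt : j < m := by
      refine (Nat.pow_lt_pow_iff_right (by norm_num : 1 < 2)).mp ?_
      rw [← e, ← h]
      have : p ^ 1 < p ^ (2 * b + 1) := Nat.pow_lt_pow_right hp1 (by omega)
      rw [pow_one] at this
      omega
    -- modulo `2 ^ (j + 1)`
    have hsq : p * p ≡ 1 [MOD 2 ^ (j + 1)] := by
      have e2 : 2 ^ (j + 1) = 2 * (p + 1) := by rw [pow_succ, e, mul_comm]
      rw [e2]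
      have hpodd := hp
      obtain ⟨c, rfl⟩ := hp
      refine ((Nat.modEq_iff_dvd' (by nlinarith)).mpr ?_).symm
      refine ⟨c, ?_⟩
      have : (2 * c + 1) * (2 * c + 1) = 2 * (2 * c + 1 + 1) * c + 1 := by ring
      omega
    have hpow : p ^ (2 * b + 1) ≡ p [MOD 2 ^ (j + 1)] := by
      have := (hsq.pow b).mul_right p
      rwa [one_pow, one_mul, ← pow_two, ← pow_mul, ← pow_succ] at this
    have h2 := hpow.add_right 1
    rw [h, e] at h2
    have h0 : 2 ^ m ≡ 0 [MOD 2 ^ (j + 1)] :=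
      Nat.modEq_zero_iff_dvd.mpr (pow_dvd_pow 2 hlt)
    have h5 := Nat.modEq_zero_iff_dvd.mp (h2.symm.trans h0)
    exact absurd ((Nat.pow_dvd_pow_iff_le_right (by norm_num : 1 < 2)).mp h5) (by omega)

namespace TriSet

variable {p : ℕ} {D : Set G} (hD : TriSet p D)
include hD

/-- Three members on a class would let a product of order `p` centralize the configuration. -/
theorem card_ne_three [Finite G] {r : G} (hr : r ∈ D) : (cls D r).ncard ≠ 3 := by
  intro hk
  obtain ⟨a0, ha0, b0, hb0, hab0⟩ := hD.nonabelian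
  obtain ⟨q, hq, hrq⟩ : ∃ q ∈ D, ¬ Commute r q := by
    by_contra hc
    push Not at hc
    exact hab0 (hD.trans r hr a0 ha0 b0 hb0 (hc a0 ha0) (hc b0 hb0))
  have hS : 1 < (swapSet D r q).ncard := by
    rw [hD.ncard_swap hr hq hrq, hD.ncard_cls_eq hq hr, hk]; norm_num
  obtain ⟨J, hJ, K, hK, hne⟩ := (Set.one_lt_ncard (Set.toFinite _)).mp hS
  have hn := hD.swap_pairwise hr hq hrq hJ hK hne
  have hu : (J * K) ^ p = 1 := hD.pow_p hJ.1 hK.1 hn
  have hur := hD.swap_mul_mem_stab hr hJ hK hq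
  have huq := hD.swap_mul_mem_stab hq (hD.swap_symm hJ) (hD.swap_symm hK) hr
  have hlt : (cls D r).ncard < p := by have := hD.five; omega
  obtain ⟨b, hb, hrb, hcb⟩ := hD.pair r hr
  have h1 := hD.commute_of_small hr hu hur hlt (s := r) ⟨hr, Commute.refl r⟩
  have h2 := hD.commute_of_small hr hu hur hlt (s := b) ⟨hb, hcb.symm⟩
  have h3 := hD.commute_of_small hq hu huq (hD.ncard_cls_eq hq hr ▸ hlt) (s := q)
    ⟨hq, Commute.refl q⟩
  have h4 := hD.cent r hr b hb q hq hcb hrb (fun h => hrq h.symm) _ h1 h2 h3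
  apply hne
  rw [mul_eq_one_iff_eq_inv, hD.inv_eq hK.1] at h4
  exact h4

theorem seven_le_card [Finite G] {r : G} (hr : r ∈ D) : 7 ≤ (cls D r).ncard := by
  obtain ⟨m, hm⟩ := hD.exists_card_add_one hr
  have h3 := hD.three_le_card hr
  have hne := hD.card_ne_three hr
  have : 3 ≤ m := by
    by_contra hc
    have hc2 : m ≤ 2 := by omega
    interval_cases m <;> omega
  have := Nat.pow_le_pow_right (n := 2) (by norm_num) this
  omega

/-- An involutory action on a class fixes at least two members. -/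
theorem two_fixed [Finite G] {r v : G} (hr : r ∈ D) (hv : v ∈ hD.stab hr)
    (h2 : ∀ s ∈ cls D r, Commute (v * v) s) :
    ∃ a ∈ cls D r, ∃ b ∈ cls D r, a ≠ b ∧ Commute v a ∧ Commute v b := by
  classical
  set E := hD.clsGroup hr with hE
  have hEc : ∀ s ∈ E, ∀ t ∈ E, Commute s t := by
    rintro s (rfl | hs) t ht
    · exact Commute.one_left t
    rcases ht with rfl | ht
    · exact Commute.one_right s
    · exact hD.commute_cls hr hs ht
  have hvE : ∀ s ∈ E, v * s * v⁻¹ ∈ E := by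
    rintro s (rfl | hs)
    · simp only [mul_one, mul_inv_cancel]; exact one_mem E
    · exact Or.inr (hD.conj_mem_cls hr hv hs)
  have hsq : ∀ s ∈ E, s * s = 1 := by
    rintro s (rfl | hs)
    · exact one_mul 1
    · exact hD.sq hs.1
  have h2' : ∀ s ∈ E, v * (v * s * v⁻¹) * v⁻¹ = s := by
    intro s hs
    have hc : Commute (v * v) s := by
      rcases hs with rfl | hs
      · exact Commute.one_right _
      · exact h2 s hs
    rw [show v * (v * s * v⁻¹) * v⁻¹ = v * v * s * (v * v)⁻¹ by group, hc.eq, mul_inv_cancel_right]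
  let f : E →* E :=
    { toFun := fun s => ⟨s * (v * s * v⁻¹), mul_mem s.2 (hvE _ s.2)⟩
      map_one' := Subtype.ext (by simp)
      map_mul' := fun s t => Subtype.ext (by
        show (s : G) * t * (v * (s * t) * v⁻¹) = s * (v * s * v⁻¹) * (t * (v * t * v⁻¹))
        rw [← conj_mul, Commute.mul_mul_mul_comm (hEc _ t.2 _ (hvE _ s.2))]) }
  have hrange : f.range ≤ f.ker := by
    rintro _ ⟨s, rfl⟩
    apply Subtype.ext
    show (s : G) * (v * s * v⁻¹) * (v * (s * (v * s * v⁻¹)) * v⁻¹) = 1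
    rw [← conj_mul, h2' _ s.2, ← mul_assoc, mul_assoc (s : G), hsq _ (hvE _ s.2), mul_one,
      hsq _ s.2]
  have hcard : Nat.card E ≤ Nat.card f.ker * Nat.card f.ker := by
    rw [← f.ker.card_mul_index, Subgroup.index_ker]
    exact Nat.mul_le_mul le_rfl (Subgroup.card_le_of_le hrange)
  set F := {s | s ∈ cls D r ∧ Commute v s} with hF
  have hkerF : Nat.card f.ker ≤ F.ncard + 1 := by
    refine le_trans ?_ (Set.ncard_insert_le (1 : G) F)
    rw [← Nat.card_coe_set_eq (insert 1 F : Set G)]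
    refine Nat.card_le_card_of_injective (fun s : f.ker => (⟨(s : E), ?_⟩ : (insert 1 F : Set G)))
      (fun s t h => by
        simp only [Subtype.mk.injEq] at h
        exact Subtype.ext (Subtype.ext h))
    rcases (s : E).2 with h1 | h1
    · exact Or.inl h1
    · refine Or.inr ⟨h1, ?_⟩
      have := congrArg Subtype.val (MonoidHom.mem_ker.mp s.2)
      change ((s : E) : G) * (v * (s : E) * v⁻¹) = 1 at this
      rw [mul_eq_one_iff_eq_inv', hD.inv_eq h1.1] at this
      exact mul_inv_eq_iff_eq_mul.mp this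
  have h7 := hD.seven_le_card hr
  rw [hD.card_clsGroup hr] at hcard
  have : 1 < F.ncard := by
    by_contra hc
    have hk2 : Nat.card f.ker ≤ 2 := by omega
    have := Nat.mul_le_mul hk2 hk2
    omega
  obtain ⟨a, ha, b, hb, hne⟩ := (Set.one_lt_ncard (Set.toFinite _)).mp this
  exact ⟨a, ha.1, b, hb.1, hne, ha.2, hb.2⟩

/-- The common stabilizer of two classes has odd order. -/
theorem odd_stab_inf [Finite G] {r q : G} (hr : r ∈ D) (hq : q ∈ D) (hrq : ¬ Commute r q) :
    Odd (Nat.card (hD.stab hr ⊓ hD.stab hq : Subgroup G)) := by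
  have : Fact (Nat.Prime 2) := ⟨Nat.prime_two⟩
  rw [← Nat.not_even_iff_odd]
  intro hev
  obtain ⟨i, hi⟩ := exists_prime_orderOf_dvd_card' 2 (even_iff_two_dvd.mp hev)
  have hii : (i : G) * i = 1 := by
    apply Invol.mul_self_of_orderOf_two
    rwa [Subgroup.orderOf_coe]
  have h2 : ∀ s ∈ cls D r, Commute ((i : G) * i) s := fun s _ => hii ▸ Commute.one_left s
  have h2' : ∀ s ∈ cls D q, Commute ((i : G) * i) s := fun s _ => hii ▸ Commute.one_left s
  obtain ⟨a, ha, b, hb, hne, hia, hib⟩ := hD.two_fixed hr i.2.1 h2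
  obtain ⟨c, hc, -, -, -, hic, -⟩ := hD.two_fixed hq i.2.2 h2'
  have hca : ¬ Commute c a := fun h => hrq
    (hD.commute_trans hr ha.1 hq ha.2.symm (hD.commute_trans ha.1 hc.1 hq h.symm hc.2))
  have := hD.cent a ha.1 b hb.1 c hc.1 (hD.commute_cls hr ha hb) hne hca _ hia hib hic
  have h1 : i = 1 := Subtype.ext this
  rw [h1, orderOf_one] at hi
  exact absurd hi (by norm_num)

/-- Members of a swap set normalize the common stabilizer. -/
theorem swap_conj_stab [Finite G] {r q J h : G} (hr : r ∈ D) (hq : q ∈ D)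
    (hJ : J ∈ swapSet D r q) (hh : h ∈ hD.stab hr ⊓ hD.stab hq) :
    J * h * J ∈ hD.stab hr ⊓ hD.stab hq := by
  have key : ∀ {r q : G} (hr : r ∈ D) (hq : q ∈ D), J ∈ swapSet D r q → h ∈ hD.stab hq →
      J * h * J ∈ hD.stab hr := by
    intro r q hr hq hJ hh
    show Commute (J * h * J * r * (J * h * J)⁻¹) r
    have h1 := hD.conj_mem_cls hq hh (⟨hD.mem_self hJ.1 hr, hJ.2⟩ : J * r * J ∈ cls D q)
    have h2 := commute_conj h1.2 J
    rw [hD.inv_eq hJ.1] at h2
    rw [mul_inv_rev, mul_inv_rev, hD.inv_eq hJ.1,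
      show J * h * J * r * (J * (h⁻¹ * J)) = J * (h * (J * r * J) * h⁻¹) * J by
        simp only [mul_assoc]]
    exact hD.commute_trans (hD.mem_self hJ.1 h1.1) (hD.mem_self hJ.1 hq) hr h2
      (hD.swap_symm hJ).2
  exact ⟨key hr hq hJ hh.2, key hq hr (hD.swap_symm hJ) hh.1⟩

/-- Elements of odd order inverted by a member have order dividing `p`. -/
theorem pow_p_of_inverted [Finite G] {J h : G} (hJ : J ∈ D) (hodd : Odd (orderOf h))
    (hi : J * h * J = h⁻¹) : h ^ p = 1 := by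
  obtain ⟨n, hn⟩ := hodd
  set g := h ^ (n + 1) with hg
  have hgg : g * g = h := by
    rw [hg, ← pow_add, show n + 1 + (n + 1) = orderOf h + 1 by omega, pow_succ, pow_orderOf_eq_one,
      one_mul]
  have hgi : J * g * J = g⁻¹ := by
    have : J * h ^ (n + 1) * J⁻¹ = (h⁻¹) ^ (n + 1) := by
      rw [← conj_pow, hD.inv_eq hJ, hi]
    rwa [hD.inv_eq hJ, inv_pow] at this
  have hd : g * J * g⁻¹ ∈ D := hD.conj g J hJ
  have hprod : g * J * g⁻¹ * J = h := by
    rw [← hgi]
    simp only [mul_assoc, hD.cancel hJ, hD.sq hJ, mul_one, hgg]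
  rcases hD.dich _ hd _ hJ with hc | hc
  · have : h ^ 2 = 1 := hprod ▸ PSet.pow_two_of_commute hc (hD.sq hd) (hD.sq hJ)
    have h1 : h = 1 := Invol.eq_one_of_odd_of_sq ⟨n, hn⟩ (by rwa [pow_two] at this)
    rw [h1, one_pow]
  · rw [← hprod, ← hc, pow_orderOf_eq_one]

theorem swap_eq_orbit [Finite G] {r q J : G} (hr : r ∈ D) (hq : q ∈ D) (hrq : ¬ Commute r q)
    (hJ : J ∈ swapSet D r q) :
    swapSet D r q = {d | ∃ h ∈ hD.stab hr ⊓ hD.stab hq, h * J * h⁻¹ = d} := by
  ext d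
  constructor
  · intro hd
    set H := hD.stab hr ⊓ hD.stab hq with hH
    have hu : J * d ∈ H := ⟨hD.swap_mul_mem_stab hr hJ hd hq,
      hD.swap_mul_mem_stab hq (hD.swap_symm hJ) (hD.swap_symm hd) hr⟩
    obtain ⟨n, hn⟩ : Odd (orderOf (J * d)) :=
      (hD.odd_stab_inf hr hq hrq).of_dvd_nat (Subgroup.orderOf_dvd_natCard H hu)
    refine ⟨((J * d) ^ (n + 1))⁻¹, inv_mem (pow_mem hu _), ?_⟩
    have e : J * (J * d) ^ (n + 1) * J = ((J * d) ^ (n + 1))⁻¹ := by
      have : J * (J * d) ^ (n + 1) * J⁻¹ = (J * (J * d) * J⁻¹) ^ (n + 1) := conj_pow.symm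
      rw [hD.inv_eq hJ.1, hD.cancel hJ.1] at this
      rw [this, ← inv_pow, mul_inv_rev, hD.inv_eq hJ.1, hD.inv_eq hd.1]
    rw [inv_inv, ← e]
    simp only [mul_assoc, hD.cancel hJ.1, hD.sq hJ.1, mul_one]
    rw [← pow_add, show n + 1 + (n + 1) = orderOf (J * d) + 1 by omega, pow_succ,
      pow_orderOf_eq_one, one_mul, hD.cancel hJ.1]
  · rintro ⟨h, hh, rfl⟩
    exact hD.swap_conj hr hq hJ hh.1 hh.2

/-- Every class has exactly `p` members. -/
theorem card_cls [Finite G] {r : G} (hr : r ∈ D) : (cls D r).ncard = p := by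
  classical
  obtain ⟨a0, ha0, b0, hb0, hab0⟩ := hD.nonabelian
  obtain ⟨q, hq, hrq⟩ : ∃ q ∈ D, ¬ Commute r q := by
    by_contra hc
    push Not at hc
    exact hab0 (hD.trans r hr a0 ha0 b0 hb0 (hc a0 ha0) (hc b0 hb0))
  obtain ⟨J, hJ⟩ := hD.swap_nonempty hr hq hrq
  set H := hD.stab hr ⊓ hD.stab hq with hH
  have hodd := hD.odd_stab_inf hr hq hrq
  letI : MulAction H G := MulAction.compHom G ((MulAut.conj (G := G)).comp H.subtype)
  have hsmul : ∀ (h : H) (x : G), h • x = (h : G) * x * (h : G)⁻¹ := fun _ _ => rfl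
  have horb : MulAction.orbit H J = swapSet D r q := by
    rw [hD.swap_eq_orbit hr hq hrq hJ]
    ext d
    constructor
    · rintro ⟨h, rfl⟩; exact ⟨h, h.2, (hsmul h J).symm⟩
    · rintro ⟨h, hh, rfl⟩; exact ⟨⟨h, hh⟩, hsmul _ J⟩
  have hidx : (MulAction.stabilizer H J).index = (cls D r).ncard := by
    rw [MulAction.index_stabilizer, horb, hD.ncard_swap hr hq hrq, hD.ncard_cls_eq hq hr]
  have hk7 := hD.seven_le_card hr
  have hprime : ∀ {d : ℕ}, d.Prime → d ∣ (cls D r).ncard → d = p := by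
    intro d hd hdvd
    by_contra hne
    have : Fact d.Prime := ⟨hd⟩
    obtain ⟨P, hP⟩ := exists_sylow_fixed hodd (hD.sq hJ.1)
      (fun h hh => hD.swap_conj_stab hr hq hJ hh) d
    have hle : (P : Subgroup H) ≤ MulAction.stabilizer H J := by
      intro v hv
      rw [MulAction.mem_stabilizer_iff, hsmul]
      obtain ⟨w, hw, hwv⟩ := hP v hv
      have hmem : v⁻¹ * w ∈ P := mul_mem (inv_mem hv) hw
      have hinv : J * ((v : G)⁻¹ * (w : G)) * J = ((v : G)⁻¹ * (w : G))⁻¹ := by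
        rw [hwv, mul_inv_rev, inv_inv, mul_inv_rev, mul_inv_rev, hD.inv_eq hJ.1]
        simp only [mul_assoc, hD.sq hJ.1, mul_one]
      have hxodd : Odd (orderOf ((v : G)⁻¹ * (w : G))) :=
        hodd.of_dvd_nat (Subgroup.orderOf_dvd_natCard H (v⁻¹ * w).2)
      have hxp := hD.pow_p_of_inverted hJ.1 hxodd hinv
      obtain ⟨i, hi⟩ := P.isPGroup' ⟨v⁻¹ * w, hmem⟩
      have hxd : ((v : G)⁻¹ * (w : G)) ^ d ^ i = 1 :=
        congrArg (fun x : (P : Subgroup H) => ((x : H) : G)) hi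
      have hcop : p.Coprime (d ^ i) :=
        ((Nat.coprime_primes hD.prime hd).mpr (Ne.symm hne)).pow_right i
      have h1 : (v : G)⁻¹ * (w : G) = 1 := by
        have := pow_gcd_eq_one.mpr ⟨hxp, hxd⟩
        rwa [hcop.gcd_eq_one, pow_one] at this
      rw [inv_mul_eq_one, hwv] at h1
      rw [mul_inv_eq_iff_eq_mul]
      calc (v : G) * J = J * v * J * J := by rw [← h1]
        _ = J * v := by rw [mul_assoc, hD.sq hJ.1, mul_one]
    exact P.not_dvd_index ((hidx ▸ hdvd).trans (Subgroup.index_dvd_of_le hle))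
  have hpow := Nat.eq_prime_pow_of_unique_prime_dvd (by omega) hprime
  obtain ⟨m, hm⟩ := hD.exists_card_add_one hr
  have hm2 : 2 ≤ m := by
    by_contra hc
    have : m ≤ 1 := by omega
    interval_cases m <;> omega
  rw [hpow] at hm ⊢
  rw [exponent_eq_one hD.odd_p hD.prime.one_lt hm2 hm, pow_one]

end TriSet

end CfsgLib.RankThreeClass
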