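import Cfsg.Agent.Lib.RankThreeClass.ClassSize

/-!
# The action on the classes is impossible
-/

set_option autoImplicit false

namespace CfsgLib.RankThreeClass

variable {G : Type*} [Group G]

theorem conj_pow_eq {v u w : G} (h : v * u * v⁻¹ = w) (n : ℕ) : v * u ^ n * v⁻¹ = w ^ n := by
  rw [← h, conj_pow]

namespace TriSet

variable {p : ℕ} {D : Set G} (hD : TriSet p D)
include hD

theorem mul_pow_conj {J K : G} (hJ : J ∈ D) (hK : K ∈ D) (n : ℕ) :
    J * (J * K) ^ n * J = ((J * K) ^ n)⁻¹ := by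
  have : J * (J * K) ^ n * J⁻¹ = (J * (J * K) * J⁻¹) ^ n := conj_pow.symm
  rw [hD.inv_eq hJ, hD.cancel hJ] at this
  rw [this, ← inv_pow, mul_inv_rev, hD.inv_eq hJ, hD.inv_eq hK]

/-- The product of two members of a swap set moves every member of the class. -/
theorem regular [Finite G] {r q J K : G} (hr : r ∈ D) (hq : q ∈ D) (hrq : ¬ Commute r q)
    (hJ : J ∈ swapSet D r q) (hK : K ∈ swapSet D r q) (hne : J ≠ K) :
    ∀ s ∈ cls D r, ¬ Commute (J * K) s := by
  intro s hs hc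
  have hn := hD.swap_pairwise hr hq hrq hJ hK hne
  have hu := hD.pow_p hJ.1 hK.1 hn
  have hus := hD.swap_mul_mem_stab hr hJ hK hq
  have hall : ∀ t ∈ cls D r, Commute (J * K) t := by
    intro t ht
    by_contra hnt
    exact hD.not_commute_of_moved hr hu hus (hD.card_cls hr) ht hnt hs hc
  obtain ⟨b, hb, hrb, hcb⟩ := hD.pair r hr
  have h1 := hall r ⟨hr, Commute.refl r⟩
  have h2 := hall b ⟨hb, hcb.symm⟩
  have h3 : Commute (J * K) (J * r * J) := by
    have := commute_conj h1 J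
    rw [hD.inv_eq hJ.1, ← pow_one (J * K), hD.mul_pow_conj hJ.1 hK.1 1, pow_one] at this
    simpa using this.inv_left
  have h4 := hD.cent r hr b hb _ (hD.mem_self hJ.1 hr) hcb hrb
    (hD.swap_not_commute_image hr hrq hJ) _ h1 h2 h3
  exact hne (by rwa [mul_eq_one_iff_eq_inv, hD.inv_eq hK.1] at h4)

theorem swap_eq_line [Finite G] {r q J K : G} (hr : r ∈ D) (hq : q ∈ D) (hrq : ¬ Commute r q)
    (hJ : J ∈ swapSet D r q) (hK : K ∈ swapSet D r q) (hne : J ≠ K) {d : G}
    (hd : d ∈ swapSet D r q) : ∃ i < p, d = J * (J * K) ^ i := by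
  have hn := hD.swap_pairwise hr hq hrq hJ hK hne
  have hus := hD.swap_mul_mem_stab hr hJ hK hq
  have hsub : (fun i : ℕ => J * (J * K) ^ i) '' Set.Iio p ⊆ swapSet D r q := by
    rintro _ ⟨i, -, rfl⟩
    exact hD.swap_mul_stab hr hq hJ (pow_mem hus i) (hD.refl_mem hJ.1 hK.1 i)
  have hinj : Set.InjOn (fun i : ℕ => J * (J * K) ^ i) (Set.Iio p) := by
    intro i hi j hj e
    have e' := (pow_inj_mod).mp (mul_left_cancel e)
    rw [hD.orderOf_eq hJ.1 hK.1 hn, Nat.mod_eq_of_lt hi, Nat.mod_eq_of_lt hj] at e'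
    exact e'
  have := Set.eq_of_subset_of_ncard_le hsub
    (by rw [hinj.ncard_image, Set.ncard_Iio_nat, hD.ncard_swap hr hq hrq, hD.card_cls hq])
    (Set.toFinite _)
  obtain ⟨i, hi, e⟩ := this.symm ▸ hd
  exact ⟨i, hi, e.symm⟩

theorem conj_line [Finite G] {r q J K : G} (hr : r ∈ D) (hq : q ∈ D) (hrq : ¬ Commute r q)
    (hJ : J ∈ swapSet D r q) (hK : K ∈ swapSet D r q) (hne : J ≠ K) {v : G}
    (hvr : v ∈ hD.stab hr) (hvq : v ∈ hD.stab hq) :
    ∃ l : ℕ, v * (J * K) * v⁻¹ = (J * K) ^ l := by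
  obtain ⟨i, hi, ei⟩ := hD.swap_eq_line hr hq hrq hJ hK hne (hD.swap_conj hr hq hJ hvr hvq)
  obtain ⟨j, hj, ej⟩ := hD.swap_eq_line hr hq hrq hJ hK hne (hD.swap_conj hr hq hK hvr hvq)
  refine ⟨(p - i) + j, ?_⟩
  rw [← conj_mul, ei, ej]
  have hu := hD.pow_p hJ.1 hK.1 (hD.swap_pairwise hr hq hrq hJ hK hne)
  have e1 : (J * K) ^ (p - i) = ((J * K) ^ i)⁻¹ := by
    rw [eq_inv_iff_mul_eq_one, ← pow_add, Nat.sub_add_cancel hi.le, hu]
  rw [pow_add, e1, ← hD.mul_pow_conj hJ.1 hK.1 i]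
  simp only [mul_assoc]

/-- An element of the common stabilizer fixing a class pointwise is trivial. -/
theorem pointwise_eq_one [Finite G] {r q J K : G} (hr : r ∈ D) (hq : q ∈ D)
    (hrq : ¬ Commute r q) (hJ : J ∈ swapSet D r q) (hK : K ∈ swapSet D r q) (hne : J ≠ K)
    {c : G} (hcr : c ∈ hD.stab hr) (hcq : c ∈ hD.stab hq)
    (hc : ∀ s ∈ cls D r, Commute c s) : c = 1 := by
  set u := J * K with hu'
  have hn := hD.swap_pairwise hr hq hrq hJ hK hne
  have hu : u ^ p = 1 := hD.pow_p hJ.1 hK.1 hn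
  have hord : orderOf u = p := hD.orderOf_eq hJ.1 hK.1 hn
  have hus := hD.swap_mul_mem_stab hr hJ hK hq
  have hreg := hD.regular hr hq hrq hJ hK hne
  have hrr : r ∈ cls D r := ⟨hr, Commute.refl r⟩
  -- `c` centralizes `u`
  obtain ⟨l, hl⟩ := hD.conj_line hr hq hrq hJ hK hne hcr hcq
  have hcu : Commute c u := by
    have hur : u * r * u⁻¹ ∈ cls D r := hD.conj_mem_cls hr hus hrr
    have e : u ^ l * r * (u ^ l)⁻¹ = u ^ 1 * r * (u ^ 1)⁻¹ := by
      rw [← hl, pow_one, show c * u * c⁻¹ * r * (c * u * c⁻¹)⁻¹ =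
        c * (u * (c⁻¹ * r * c) * u⁻¹) * c⁻¹ by group, mul_assoc c⁻¹ r c, ← (hc r hrr).eq,
        inv_mul_cancel_left, (hc _ hur).eq, mul_inv_cancel_right]
    have e2 : u ^ (l % p) = u ^ 1 := by
      have hmod : u ^ (l % p) = u ^ l := by rw [← hord, pow_mod_orderOf]
      have e3 := conj_pow_injOn hD.prime hu (hreg r hrr) (Nat.mod_lt l hD.prime.pos)
        (hD.prime.one_lt : (1 : ℕ) ∈ Set.Iio p) (by simp only [hmod]; exact e)
      rw [e3]
    rw [← hord, pow_mod_orderOf, pow_one, ← hl] at e2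
    exact mul_inv_eq_iff_eq_mul.mp e2
  -- the conjugates of `J`
  obtain ⟨j, hj, ej⟩ := hD.swap_eq_line hr hq hrq hJ hK hne (hD.swap_conj hr hq hJ hcr hcq)
  have hit : ∀ n : ℕ, c ^ n * J * (c ^ n)⁻¹ = J * u ^ (j * n) := by
    intro n
    induction n with
    | zero => simp
    | succ n ih =>
      rw [pow_succ', mul_inv_rev, show c * c ^ n * J * ((c ^ n)⁻¹ * c⁻¹) =
        c * (c ^ n * J * (c ^ n)⁻¹) * c⁻¹ by group, ih, ← conj_mul, ej,
        (hcu.pow_right (j * n)).eq, mul_inv_cancel_right, mul_assoc, ← pow_add]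
      congr 2
      ring
  have hcpJ : Commute (c ^ p) J := by
    have := hit p
    rw [mul_comm j p, pow_mul, hu, one_pow, mul_one] at this
    exact mul_inv_eq_iff_eq_mul.mp this
  obtain ⟨b, hb, hrb, hcb⟩ := hD.pair r hr
  have hcp : c ^ p = 1 :=
    hD.cent r hr b hb _ (hD.mem_self hJ.1 hr) hcb hrb (hD.swap_not_commute_image hr hrq hJ) _
      ((hc r hrr).pow_left p) ((hc b ⟨hb, hcb.symm⟩).pow_left p)
      ((hcpJ.mul_right ((hc r hrr).pow_left p)).mul_right hcpJ)
  -- correct `c` by a power of `u` centralizing `J`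
  obtain ⟨k, hk⟩ := hD.odd_p
  set i := j * (k + 1) with hi
  set w := c * u ^ i with hw'
  have hwp : w ^ p = 1 := by
    rw [hw', (hcu.pow_right i).mul_pow, hcp, one_mul, ← pow_mul, mul_comm i p, pow_mul, hu,
      one_pow]
  have hwJ : Commute w J := by
    show c * u ^ i * J = J * (c * u ^ i)
    have e1 : u ^ i * J = J * (u ^ i)⁻¹ := by
      rw [← hD.mul_pow_conj hJ.1 hK.1 i]; simp only [hu', mul_assoc, hD.cancel hJ.1]
    have e2 : c * J = J * u ^ j * c := mul_inv_eq_iff_eq_mul.mp ej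
    have e3 : u ^ j = u ^ i * u ^ i := by
      rw [← pow_add, show i + i = p * j + j by rw [hi, hk]; ring, pow_add, pow_mul, hu, one_pow,
        one_mul]
    rw [mul_assoc, e1, ← mul_assoc, e2, e3]
    calc J * (u ^ i * u ^ i) * c * (u ^ i)⁻¹ = J * (u ^ i * u ^ i) * (c * (u ^ i)⁻¹) := by
          simp only [mul_assoc]
      _ = J * (u ^ i * u ^ i * (u ^ i)⁻¹ * c) := by
          rw [(hcu.pow_right i).inv_right.eq]; simp only [mul_assoc]
      _ = J * (u ^ i * c) := by rw [mul_inv_cancel_right]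
      _ = J * (c * u ^ i) := by rw [(hcu.pow_right i).eq]
  have hwu : Commute w u := hcu.mul_left (Commute.pow_self u i)
  have hwK : Commute w K := by
    have := hwJ.mul_right hwu
    rwa [hu', hD.cancel hJ.1] at this
  have hwst : w ∈ hD.stab hJ.1 := by
    show Commute (w * J * w⁻¹) J
    rw [hwJ.eq, mul_inv_cancel_right]
  obtain ⟨J2, hJ2, hJJ2, hcJ2⟩ := hD.pair J hJ.1
  have hwJ2 : Commute w J2 := by
    by_contra hn2
    exact hD.not_commute_of_moved hJ.1 hwp hwst (hD.card_cls hJ.1) ⟨hJ2, hcJ2.symm⟩ hn2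
      ⟨hJ.1, Commute.refl J⟩ hwJ
  have hw1 := hD.cent J hJ.1 J2 hJ2 K hK.1 hcJ2 hJJ2 (fun h => hn h.symm) w hwJ hwJ2 hwK
  have hcr' := hc r hrr
  rw [hw', mul_eq_one_iff_eq_inv] at hw1
  by_contra hc1
  have hur : Commute (u ^ i) r := by
    rw [hw1] at hcr'
    simpa using hcr'.inv_left
  have hcop : i.Coprime (orderOf u) := by
    rw [hord]
    refine ((Nat.Prime.coprime_iff_not_dvd hD.prime).mpr fun hd => hc1 ?_).symm
    obtain ⟨e, he⟩ := hd
    rw [hw1, he, pow_mul, hu, one_pow, inv_one]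
  obtain ⟨m, hm⟩ := exists_pow_eq_self_of_coprime hcop
  have := hur.pow_left m
  rw [hm] at this
  exact hreg r hrr this

/-- The elements of order dividing `p` of the common stabilizer are powers of `J * K`. -/
theorem eq_pow [Finite G] {r q J K : G} (hr : r ∈ D) (hq : q ∈ D)
    (hrq : ¬ Commute r q) (hJ : J ∈ swapSet D r q) (hK : K ∈ swapSet D r q) (hne : J ≠ K)
    {v : G} (hvr : v ∈ hD.stab hr) (hvq : v ∈ hD.stab hq) (hvp : v ^ p = 1) :
    ∃ i : ℕ, v = (J * K) ^ i := by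
  set u := J * K with hu'
  have hn := hD.swap_pairwise hr hq hrq hJ hK hne
  have hu : u ^ p = 1 := hD.pow_p hJ.1 hK.1 hn
  have hord : orderOf u = p := hD.orderOf_eq hJ.1 hK.1 hn
  have hus := hD.swap_mul_mem_stab hr hJ hK hq
  have huq := hD.swap_mul_mem_stab hq (hD.swap_symm hJ) (hD.swap_symm hK) hr
  have hreg := hD.regular hr hq hrq hJ hK hne
  have hrr : r ∈ cls D r := ⟨hr, Commute.refl r⟩
  obtain ⟨l, hl⟩ := hD.conj_line hr hq hrq hJ hK hne hvr hvq
  have hit : ∀ n : ℕ, v ^ n * u * (v ^ n)⁻¹ = u ^ (l ^ n) := by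
    intro n
    induction n with
    | zero => simp
    | succ n ih =>
      rw [pow_succ' v, mul_inv_rev, show v * v ^ n * u * ((v ^ n)⁻¹ * v⁻¹) =
        v * (v ^ n * u * (v ^ n)⁻¹) * v⁻¹ by group, ih, conj_pow_eq hl, ← pow_mul, pow_succ']
  have hvu : Commute v u := by
    have h1 := hit p
    rw [hvp] at h1
    simp only [one_mul, inv_one, mul_one] at h1
    have h2 : u ^ (l ^ p) = u ^ l := by
      rw [pow_eq_pow_iff_modEq, hord]
      have := Fact.mk hD.prime
      rw [← ZMod.natCast_eq_natCast_iff, Nat.cast_pow, ZMod.pow_card]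
    rw [← h1, ← hl] at h2
    exact mul_inv_eq_iff_eq_mul.mp h2.symm
  obtain ⟨i, -, hi⟩ := hD.orbit_eq hr hu hus (hD.card_cls hr) hrr (hreg r hrr)
    (hD.conj_mem_cls hr hvr hrr)
  refine ⟨i, ?_⟩
  have hc := hD.pointwise_eq_one hr hq hrq hJ hK hne (c := (u ^ i)⁻¹ * v)
    (mul_mem (inv_mem (pow_mem hus i)) hvr) (mul_mem (inv_mem (pow_mem huq i)) hvq) ?_
  · exact (inv_mul_eq_one.mp hc).symm
  intro s hs
  obtain ⟨n, -, rfl⟩ := hD.orbit_eq hr hu hus (hD.card_cls hr) hrr (hreg r hrr) hs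
  have hcr : Commute ((u ^ i)⁻¹ * v) r := by
    show (u ^ i)⁻¹ * v * r = r * ((u ^ i)⁻¹ * v)
    rw [mul_assoc, mul_inv_eq_iff_eq_mul.mp hi]
    simp only [mul_assoc, inv_mul_cancel_left]
  have hcu : Commute ((u ^ i)⁻¹ * v) (u ^ n) :=
    (((Commute.refl u).pow_pow i n).inv_left).mul_left (hvu.pow_right n)
  exact (hcu.mul_right hcr).mul_right hcu.inv_right

/-- Members of a swap set invert the elements of order dividing `p` of the common stabilizer, and
these are trivial or regular on both classes. -/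
theorem inverts_and_regular [Finite G] {r q d v : G} (hr : r ∈ D) (hq : q ∈ D)
    (hrq : ¬ Commute r q) (hd : d ∈ swapSet D r q) (hvr : v ∈ hD.stab hr)
    (hvq : v ∈ hD.stab hq) (hvp : v ^ p = 1) :
    d * v * d = v⁻¹ ∧ (v ≠ 1 → ∀ s ∈ cls D r, ¬ Commute v s) := by
  obtain ⟨K, hK, hne⟩ : ∃ K ∈ swapSet D r q, K ≠ d := by
    refine Set.exists_ne_of_one_lt_ncard ?_ d
    rw [hD.ncard_swap hr hq hrq, hD.card_cls hq]
    exact hD.prime.one_lt
  obtain ⟨i, rfl⟩ := hD.eq_pow hr hq hrq hd hK hne.symm hvr hvq hvp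
  refine ⟨hD.mul_pow_conj hd.1 hK.1 i, fun h1 s hs hc => ?_⟩
  have hn := hD.swap_pairwise hr hq hrq hd hK hne.symm
  have hcop : i.Coprime (orderOf (d * K)) := by
    rw [hD.orderOf_eq hd.1 hK.1 hn]
    refine ((Nat.Prime.coprime_iff_not_dvd hD.prime).mpr fun hdv => h1 ?_).symm
    obtain ⟨e, he⟩ := hdv
    rw [he, pow_mul, hD.pow_p hd.1 hK.1 hn, one_pow]
  obtain ⟨m, hm⟩ := exists_pow_eq_self_of_coprime hcop
  exact hD.regular hr hq hrq hd hK hne.symm s hs (hm ▸ hc.pow_left m)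

/-- A nontrivial element of order `p` does not fix three classes. -/
theorem not_three [Finite G] {x y z u : G} (hx : x ∈ D) (hy : y ∈ D) (hz : z ∈ D)
    (hxy : ¬ Commute x y) (hyz : ¬ Commute y z) (hzx : ¬ Commute z x) (hu : u ^ p = 1)
    (hu1 : u ≠ 1) (hux : u ∈ hD.stab hx) (huy : u ∈ hD.stab hy) (huz : u ∈ hD.stab hz) :
    False := by
  obtain ⟨d1, h1⟩ := hD.swap_nonempty hx hy hxy
  obtain ⟨d2, h2⟩ := hD.swap_nonempty hy hz hyz
  obtain ⟨d3, h3⟩ := hD.swap_nonempty hz hx hzx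
  obtain ⟨i1, hreg⟩ := hD.inverts_and_regular hx hy hxy h1 hux huy hu
  have i2 := (hD.inverts_and_regular hy hz hyz h2 huy huz hu).1
  have i3 := (hD.inverts_and_regular hz hx hzx h3 huz hux hu).1
  have hreg := hreg hu1
  have hxx : x ∈ cls D x := ⟨hx, Commute.refl x⟩
  set v := d3 * d2 * d1 with hv
  have hvi : v⁻¹ = d1 * d2 * d3 := by
    rw [hv, mul_inv_rev, mul_inv_rev, hD.inv_eq h1.1, hD.inv_eq h2.1, hD.inv_eq h3.1, mul_assoc]
  have hvx : v ∈ hD.stab hx := by
    show Commute (v * x * v⁻¹) x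
    have c1 := commute_conj h1.2 d2
    rw [hD.inv_eq h2.1] at c1
    have c2 := hD.commute_trans (hD.mem_self h2.1 (hD.mem_self h1.1 hx)) (hD.mem_self h2.1 hy)
      hz c1 h2.2
    have c3 := commute_conj c2 d3
    rw [hD.inv_eq h3.1] at c3
    have c4 := hD.commute_trans (hD.mem_self h3.1 (hD.mem_self h2.1 (hD.mem_self h1.1 hx)))
      (hD.mem_self h3.1 hz) hx c3 h3.2
    rw [hvi, hv]
    simp only [mul_assoc] at c4 ⊢
    exact c4
  have hvu : v * u * v⁻¹ = u⁻¹ := by
    rw [hvi, hv, show d3 * d2 * d1 * u * (d1 * d2 * d3) = d3 * (d2 * (d1 * u * d1) * d2) * d3 by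
      simp only [mul_assoc], i1]
    have e : d2 * u⁻¹ * d2 = u := by
      have := congrArg (fun w => w⁻¹) i2
      simpa only [mul_inv_rev, hD.inv_eq h2.1, inv_inv, mul_assoc] using this
    rw [e, i3]
  have hvinv : ∀ n : ℕ, v * u ^ n * v⁻¹ = (u ^ n)⁻¹ := fun n => by
    rw [conj_pow_eq hvu, inv_pow]
  have hv2u : Commute (v * v) u := by
    refine mul_inv_eq_iff_eq_mul.mp ?_
    rw [show v * v * u * (v * v)⁻¹ = v * (v * u * v⁻¹) * v⁻¹ by group, hvu, ← conj_inv, hvu,
      inv_inv]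
  obtain ⟨i, -, hi⟩ := hD.orbit_eq hx hu hux (hD.card_cls hx) hxx (hreg x hxx)
    (hD.conj_mem_cls hx (mul_mem hvx hvx) hxx)
  have hui : u ^ i = 1 := by
    set s := v * x * v⁻¹ with hs'
    have hs : s ∈ cls D x := hD.conj_mem_cls hx hvx hxx
    obtain ⟨n, -, hn⟩ := hD.orbit_eq hx hu hux (hD.card_cls hx) hxx (hreg x hxx) hs
    have A : v * v * s * (v * v)⁻¹ = u ^ i * s * (u ^ i)⁻¹ := by
      rw [hn, ← conj_mul, ← conj_mul, ← conj_inv, (hv2u.pow_right n).eq, mul_inv_cancel_right, hi]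
      rw [show u ^ n * (u ^ i * x * (u ^ i)⁻¹) * (u ^ n)⁻¹ =
        u ^ n * u ^ i * x * (u ^ n * u ^ i)⁻¹ by group,
        show u ^ i * (u ^ n * x * (u ^ n)⁻¹) * (u ^ i)⁻¹ =
        u ^ i * u ^ n * x * (u ^ i * u ^ n)⁻¹ by group, ← pow_add, ← pow_add, add_comm]
    have B : v * v * s * (v * v)⁻¹ = (u ^ i)⁻¹ * s * u ^ i := by
      rw [hs', show v * v * (v * x * v⁻¹) * (v * v)⁻¹ = v * (v * v * x * (v * v)⁻¹) * v⁻¹ by group,
        hi, ← conj_mul, ← conj_mul, ← conj_inv, hvinv, inv_inv]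
    have C : Commute (u ^ (2 * i)) s := by
      rw [A] at B
      refine mul_inv_eq_iff_eq_mul.mp ?_
      rw [two_mul, pow_add, show u ^ i * u ^ i * s * (u ^ i * u ^ i)⁻¹ =
        u ^ i * (u ^ i * s * (u ^ i)⁻¹) * (u ^ i)⁻¹ by group, B]
      group
    by_contra h0
    have hcop : (2 * i).Coprime (orderOf u) := by
      have := Fact.mk hD.prime
      rw [orderOf_eq_prime hu hu1]
      refine ((Nat.Prime.coprime_iff_not_dvd hD.prime).mpr fun hdv => h0 ?_).symm
      rcases hD.prime.dvd_mul.mp hdv with h | ⟨e, he⟩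
      · exact absurd (Nat.le_of_dvd (by norm_num) h) (by have := hD.five; omega)
      · rw [he, pow_mul, hu, one_pow]
    obtain ⟨m, hm⟩ := exists_pow_eq_self_of_coprime hcop
    exact hreg s hs (hm ▸ C.pow_left m)
  have hfix : ∀ s ∈ cls D x, Commute (v * v) s := by
    intro s hs
    obtain ⟨n, -, rfl⟩ := hD.orbit_eq hx hu hux (hD.card_cls hx) hxx (hreg x hxx) hs
    have hcx : Commute (v * v) x := by
      refine mul_inv_eq_iff_eq_mul.mp ?_
      rw [hi, hui, one_mul, inv_one, mul_one]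
    exact ((hv2u.pow_right n).mul_right hcx).mul_right (hv2u.pow_right n).inv_right
  obtain ⟨a, ha, b, hb, hne, hva, hvb⟩ := hD.two_fixed hx hvx hfix
  obtain ⟨n, -, hn⟩ := hD.orbit_eq hx hu hux (hD.card_cls hx) ha (hreg a ha) hb
  have e : (u ^ n)⁻¹ * a * u ^ n = u ^ n * a * (u ^ n)⁻¹ := by
    have h := mul_inv_eq_iff_eq_mul.mpr hvb.eq
    rw [hn, ← conj_mul, ← conj_mul, ← conj_inv, hvinv, inv_inv, hva.eq, mul_inv_cancel_right] at h
    exact h
  have C : Commute (u ^ (2 * n)) a := by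
    refine mul_inv_eq_iff_eq_mul.mp ?_
    rw [two_mul, pow_add, show u ^ n * u ^ n * a * (u ^ n * u ^ n)⁻¹ =
      u ^ n * (u ^ n * a * (u ^ n)⁻¹) * (u ^ n)⁻¹ by group, ← e]
    group
  apply hne
  by_cases h0 : u ^ n = 1
  · rw [hn, h0, one_mul, inv_one, mul_one]
  exfalso
  have hcop : (2 * n).Coprime (orderOf u) := by
    have := Fact.mk hD.prime
    rw [orderOf_eq_prime hu hu1]
    refine ((Nat.Prime.coprime_iff_not_dvd hD.prime).mpr fun hdv => h0 ?_).symm
    rcases hD.prime.dvd_mul.mp hdv with h | ⟨e, he⟩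
    · exact absurd (Nat.le_of_dvd (by norm_num) h) (by have := hD.five; omega)
    · rw [he, pow_mul, hu, one_pow]
  obtain ⟨m, hm⟩ := exists_pow_eq_self_of_coprime hcop
  exact hreg a ha (hm ▸ C.pow_left m)

/-- Some product of two members fixes no class. -/
theorem exists_fixfree [Finite G] :
    ∃ a ∈ D, ∃ b ∈ D, ¬ Commute a b ∧ ∀ r (hr : r ∈ D), a * b ∉ hD.stab hr := by
  classical
  have := Fintype.ofFinite G
  obtain ⟨a, ha, b0, hb0, hab0⟩ := hD.nonabelian
  by_contra hc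
  push Not at hc
  have hc' : ∀ b ∈ D, ¬ Commute a b → ∃ r, ∃ hr : r ∈ D, a * b ∈ hD.stab hr :=
    fun b hb hab => hc a ha b hb hab
  -- the member fixed by `a * b`
  let f : G → G := fun b => if h : ∃ r, ∃ hr : r ∈ D, a * b ∈ hD.stab hr then h.choose else a
  let s : Finset G := Finset.univ.filter fun b => b ∈ D ∧ ¬ Commute a b
  let T : Finset (Set G) := s.image fun b => cls D b
  let F : G → Set G := fun b => cls D (f b)
  have hf : ∀ b ∈ s, ∃ hr : f b ∈ D, a * b ∈ hD.stab hr ∧ ¬ Commute a (f b) := by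
    intro b hb
    obtain ⟨hbD, hab⟩ := (Finset.mem_filter.mp hb).2
    have h := hc' b hbD hab
    have hfb : f b = h.choose := dif_pos h
    obtain ⟨hr, hst⟩ := h.choose_spec
    refine ⟨hfb ▸ hr, by simp only [hfb]; exact hst, ?_⟩
    rw [hfb]
    intro har
    -- then `b` would fix the class as well
    apply hab
    have hbs : Commute (b * a * b) a := by
      have h1 : a * b ∈ hD.stab ha := hD.stab_mono hr ha har.symm hst
      rw [mem_stab, mul_inv_rev, hD.inv_eq ha, hD.inv_eq hbD] at h1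
      have h2 := commute_conj h1 a
      rw [hD.inv_eq ha] at h2
      simp only [mul_assoc, hD.cancel ha, hD.sq ha, mul_one, one_mul] at h2
      simpa only [mul_assoc] using h2
    exact (hD.commute_of_commute_conj hbD ha hbs).symm
  have hFT : s.image F ⊆ T := by
    intro X hX
    obtain ⟨b, hb, rfl⟩ := Finset.mem_image.mp hX
    obtain ⟨hr, -, har⟩ := hf b hb
    exact Finset.mem_image.mpr ⟨f b, Finset.mem_filter.mpr ⟨Finset.mem_univ _, hr, har⟩, rfl⟩
  have hlow : p * T.card ≤ s.card := by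
    refine Finset.mul_card_image_le_card s p fun X hX => ?_
    obtain ⟨c, hc1, rfl⟩ := Finset.mem_image.mp hX
    obtain ⟨hcD, hac⟩ := (Finset.mem_filter.mp hc1).2
    calc p = (cls D c).ncard := (hD.card_cls hcD).symm
      _ ≤ (↑(s.filter fun b => cls D b = cls D c) : Set G).ncard := by
          refine Set.ncard_le_ncard (fun t ht => ?_) (Finset.finite_toSet _)
          refine Finset.mem_filter.mpr ⟨Finset.mem_filter.mpr ⟨Finset.mem_univ _, ht.1,
            fun h => hac (hD.commute_trans ha ht.1 hcD h ht.2)⟩, hD.cls_eq ht.1 hcD ht.2⟩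
      _ = _ := Set.ncard_coe_finset _
  have hup : s.card ≤ (p - 1) * (s.image F).card := by
    refine Finset.card_le_mul_card_image s _ fun X hX => ?_
    obtain ⟨c, hc1, rfl⟩ := Finset.mem_image.mp hX
    obtain ⟨hr, -, har⟩ := hf c hc1
    set r := f c with hr'
    have har' : ¬ Commute r (a * r * a) :=
      fun h => hD.not_commute_conj ha hr har h.symm
    have haS : a ∈ swapSet D r (a * r * a) := ⟨ha, Commute.refl _⟩
    calc (s.filter fun b => F b = F c).card
        = (↑(s.filter fun b => F b = F c) : Set G).ncard := (Set.ncard_coe_finset _).symm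
      _ ≤ (swapSet D r (a * r * a) \ {a}).ncard := by
          refine Set.ncard_le_ncard (fun b hb => ?_) (Set.toFinite _)
          obtain ⟨hbs, hbF⟩ := Finset.mem_filter.mp hb
          obtain ⟨hbD, hab⟩ := (Finset.mem_filter.mp hbs).2
          obtain ⟨hrb, hst, -⟩ := hf b hbs
          have hcr : Commute (f b) r := by
            have : f b ∈ cls D r := by
              rw [show cls D r = cls D (f b) from hbF.symm]; exact ⟨hrb, Commute.refl _⟩
            exact this.2
          have hst' := hD.stab_mono hrb hr hcr hst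
          refine ⟨⟨hbD, ?_⟩, fun (h : b = a) => hab (h ▸ Commute.refl a)⟩
          rw [mem_stab, mul_inv_rev, hD.inv_eq ha, hD.inv_eq hbD] at hst'
          have := commute_conj hst' a
          rw [hD.inv_eq ha] at this
          simp only [mul_assoc, hD.cancel ha, hD.sq ha, mul_one] at this
          simpa only [mul_assoc] using this
      _ = p - 1 := by
          rw [Set.ncard_diff_singleton_of_mem haS,
            hD.ncard_swap hr (hD.mem_self ha hr) har', hD.card_cls (hD.mem_self ha hr)]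
  have hTpos : 0 < T.card :=
    Finset.card_pos.mpr ⟨_, Finset.mem_image.mpr
      ⟨b0, Finset.mem_filter.mpr ⟨Finset.mem_univ _, hb0, hab0⟩, rfl⟩⟩
  have h1 := Finset.card_le_card hFT
  have h2 : p * T.card ≤ (p - 1) * T.card :=
    hlow.trans (hup.trans (Nat.mul_le_mul_left _ h1))
  have h3 := Nat.le_of_mul_le_mul_right h2 hTpos
  have := hD.five
  omega

/-- There is no such configuration. -/
theorem false [Finite G] : False := by
  classical
  obtain ⟨a, ha, b, hb, hab, hfree⟩ := hD.exists_fixfree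
  obtain ⟨r, hr, q, hq, hrq⟩ := hD.nonabelian
  have hcard : 1 < (swapSet D r q).ncard := by
    rw [hD.ncard_swap hr hq hrq, hD.card_cls hq]; exact hD.prime.one_lt
  obtain ⟨J, hJ, K, hK, hne⟩ := (Set.one_lt_ncard (Set.toFinite _)).mp hcard
  let C := {X : Set G // ∃ c ∈ D, X = cls D c}
  letI : MulAction G C :=
    { smul := fun g X => ⟨(fun s => g * s * g⁻¹) '' X.1, by
        obtain ⟨c, hc, e⟩ := X.2
        exact ⟨g * c * g⁻¹, hD.conj g c hc, by rw [hD.cls_conj, e]⟩⟩
      one_smul := fun X => Subtype.ext (by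
        show (fun s => (1 : G) * s * 1⁻¹) '' X.1 = X.1
        simp)
      mul_smul := fun g h X => Subtype.ext (by
        show (fun s => g * h * s * (g * h)⁻¹) '' X.1 =
          (fun s => g * s * g⁻¹) '' ((fun s => h * s * h⁻¹) '' X.1)
        rw [Set.image_image]
        congr 1
        funext s
        group) }
  have hfix : ∀ {c : G} (hc : c ∈ D) (g : G),
      g • (⟨cls D c, c, hc, rfl⟩ : C) = ⟨cls D c, c, hc, rfl⟩ ↔ g ∈ hD.stab hc := by
    intro c hc g
    rw [Subtype.ext_iff]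
    show (fun s => g * s * g⁻¹) '' cls D c = cls D c ↔ _
    rw [← hD.cls_conj]
    constructor
    · intro e
      have : g * c * g⁻¹ ∈ cls D c := e ▸ ⟨hD.conj g c hc, Commute.refl _⟩
      exact this.2
    · exact fun h => hD.cls_eq (hD.conj g c hc) hc h
  have key : ∀ w : G, w ^ p = 1 →
      Nat.card C ≡ Nat.card {X : C // w • X = X} [MOD p] := by
    intro w hw
    have : Fact p.Prime := ⟨hD.prime⟩
    have hp : IsPGroup p (Subgroup.zpowers w) := fun x => ⟨1, by
      obtain ⟨i, hi⟩ := Subgroup.mem_zpowers_iff.mp x.2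
      apply Subtype.ext
      show (x : G) ^ (p ^ 1) = 1
      rw [← hi, pow_one, ← zpow_natCast, ← zpow_mul, mul_comm, zpow_mul, zpow_natCast, hw,
        one_zpow]⟩
    have h := hp.card_modEq_card_fixedPoints C
    have e : MulAction.fixedPoints (Subgroup.zpowers w) C = {X : C | w • X = X} := by
      ext X
      constructor
      · exact fun hX => hX ⟨w, Subgroup.mem_zpowers w⟩
      · intro hX g
        have hle : Subgroup.zpowers w ≤ MulAction.stabilizer G X :=
          Subgroup.zpowers_le.mpr hX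
        exact hle g.2
    rw [e] at h
    exact h
  have hn := hD.swap_pairwise hr hq hrq hJ hK hne
  have h0 := key (a * b) (hD.pow_p ha hb hab)
  have h2 := key (J * K) (hD.pow_p hJ.1 hK.1 hn)
  have hu1 : J * K ≠ 1 := fun h => hne (by rwa [mul_eq_one_iff_eq_inv, hD.inv_eq hK.1] at h)
  have hur := hD.swap_mul_mem_stab hr hJ hK hq
  have huq := hD.swap_mul_mem_stab hq (hD.swap_symm hJ) (hD.swap_symm hK) hr
  have e0 : Nat.card {X : C // (a * b) • X = X} = 0 := by
    have : IsEmpty {X : C // (a * b) • X = X} := by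
      refine ⟨fun X => ?_⟩
      obtain ⟨⟨X, c, hc, rfl⟩, hX⟩ := X
      exact hfree c hc ((hfix hc _).mp hX)
    exact Nat.card_of_isEmpty
  have e2 : Nat.card {X : C // (J * K) • X = X} = 2 := by
    have hs : {X : C | (J * K) • X = X} =
        {⟨cls D r, r, hr, rfl⟩, ⟨cls D q, q, hq, rfl⟩} := by
      ext X
      obtain ⟨X, c, hc, rfl⟩ := X
      constructor
      · intro hX
        have hst := (hfix hc _).mp hX
        by_cases h1 : Commute c r
        · exact Or.inl (Subtype.ext (hD.cls_eq hc hr h1))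
        by_cases h3 : Commute c q
        · exact Or.inr (Subtype.ext (hD.cls_eq hc hq h3))
        exact (hD.not_three hr hq hc hrq (fun h => h3 h.symm) h1
          (hD.pow_p hJ.1 hK.1 hn) hu1 hur huq hst).elim
      · rintro (h | h)
        · rw [Set.mem_setOf_eq, h]; exact (hfix hr _).mpr hur
        · rw [Set.mem_setOf_eq, Set.mem_singleton_iff.mp h]; exact (hfix hq _).mpr huq
    rw [← Set.coe_setOf, Nat.card_coe_set_eq, hs, Set.ncard_pair]
    intro h
    have : r ∈ cls D q := by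
      rw [show cls D q = cls D r from (Subtype.ext_iff.mp h).symm]; exact ⟨hr, Commute.refl r⟩
    exact hrq this.2
  rw [e0] at h0
  rw [e2] at h2
  have h4 := Nat.modEq_zero_iff_dvd.mp (h2.symm.trans h0)
  have := Nat.le_of_dvd (by norm_num) h4
  have := hD.five
  omega

end TriSet

end CfsgLib.RankThreeClass
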