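import Cfsg.Agent.Lib.RankThreeClass.Basic
import Cfsg.Agent.Lib.Baer.Basic
import Cfsg.Agent.Lib.ZStar.Main
import Cfsg.Agent.Lib.OddOrder.Solvable

/-!
# A generating class of involutions with rank three: the orbits and the order of a product
-/

set_option autoImplicit false

universe u

namespace CfsgLib.RankThreeClass

open Cfsg

variable {G : Type u} [Group G]

/-- The conjugates of `y` under the centralizer of `x`. -/
def orb (x y : G) : Set G := {w : G | ∃ g : G, Commute g x ∧ g * y * g⁻¹ = w}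

/-- A generating class of involutions of a group with trivial solvable radical, with the two
nontrivial suborbits told apart by commuting. -/
structure RankThree (D : Set G) : Prop where
  inv : ∀ d ∈ D, orderOf d = 2
  conj : ∀ g : G, ∀ d ∈ D, g * d * g⁻¹ ∈ D
  conjugate : ∀ a ∈ D, ∀ b ∈ D, IsConj a b
  gen : Subgroup.closure D = ⊤
  radical : ∀ N : Subgroup G, N.Normal → Group.IsSolvable N → N = ⊥
  nonabelian : ∀ x ∈ D, ∃ z ∈ D, ¬ Commute z x
  adjacent : ∀ x ∈ D, ∃ y ∈ D, y ≠ x ∧ Commute y x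
  trans : ∀ x ∈ D, ∀ a ∈ D, ∀ b ∈ D, a ≠ x → b ≠ x → (Commute a x ↔ Commute b x) →
    ∃ g : G, Commute g x ∧ g * a * g⁻¹ = b

/-- A class of pairwise commuting involutions cannot generate such a group. -/
theorem false_of_commuting [Finite G] {D : Set G} {x : G} (hx : x ∈ D) (h2 : orderOf x = 2)
    (hgen : Subgroup.closure D = ⊤)
    (hrad : ∀ N : Subgroup G, N.Normal → Group.IsSolvable N → N = ⊥)
    (h : ∀ a ∈ D, ∀ b ∈ D, Commute a b) : False := by
  have h1 : Subgroup.closure D ≤ Subgroup.centralizer D := by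
    rw [Subgroup.closure_le]
    intro a ha b hb
    exact h b hb a ha
  have h3 : Subgroup.closure D ≤ Subgroup.centralizer (Subgroup.closure D : Set G) := by
    rw [Subgroup.closure_le]
    intro a ha b hb
    exact (h1 hb a ha).symm
  have hs : Group.IsSolvable (⊤ : Subgroup G) := by
    refine isSolvable_of_comm fun a b => Subtype.ext ?_
    have ha : (a : G) ∈ Subgroup.closure D := by rw [hgen]; exact Subgroup.mem_top _
    have hb : (b : G) ∈ Subgroup.closure D := by rw [hgen]; exact Subgroup.mem_top _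
    exact h3 hb a ha
  have := hrad ⊤ inferInstance hs
  exact Invol.ne_one_of_orderOf_two h2 (Subgroup.mem_bot.mp (this ▸ Subgroup.mem_top x))

theorem mem_orb_commute_iff {x y w : G} (hw : w ∈ orb x y) : Commute w x ↔ Commute y x := by
  obtain ⟨g, hg, rfl⟩ := hw
  conv_lhs => rw [show x = g * x * g⁻¹ by rw [hg.eq, mul_inv_cancel_right]]
  exact commute_conj_iff g

theorem orb_self (x : G) : orb x x = {x} := by
  ext w
  constructor
  · rintro ⟨g, hg, rfl⟩
    rw [hg.eq, mul_inv_cancel_right]; exact rfl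
  · rintro rfl; exact ⟨1, Commute.one_left _, by simp⟩

theorem mem_orb (x y : G) : y ∈ orb x y := ⟨1, Commute.one_left _, by simp⟩

theorem orb_eq_of_mem {x y w : G} (hw : w ∈ orb x y) : orb x w = orb x y := by
  obtain ⟨g, hg, rfl⟩ := hw
  ext v
  constructor
  · rintro ⟨h, hh, rfl⟩; exact ⟨h * g, hh.mul_left hg, by group⟩
  · rintro ⟨h, hh, rfl⟩; exact ⟨h * g⁻¹, hh.mul_left hg.inv_left, by group⟩

theorem ne_of_orb_ne {x y w : G} (h : orb x y ≠ orb x x) (hw : w ∈ orb x y) : w ≠ x :=
  fun e => h (by rw [← orb_eq_of_mem hw, e])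

/-- The hypothesis on the suborbits in usable form. -/
theorem rankThree_of_orbits [Finite G] {D : Set G} (hinv : ∀ d ∈ D, orderOf d = 2)
    (hclass : ∃ d ∈ D, D = conjugatesOf d) (hgen : Subgroup.closure D = ⊤)
    (hrad : ∀ N : Subgroup G, N.Normal → Group.IsSolvable N → N = ⊥)
    (hrank : ∀ x ∈ D, ∃ y ∈ D, ∃ z ∈ D, orb x y ≠ orb x x ∧ orb x z ≠ orb x x ∧
      orb x y ≠ orb x z ∧ D = orb x x ∪ orb x y ∪ orb x z) : RankThree D := by
  obtain ⟨d0, hd0, hD⟩ := hclass
  have hconj : ∀ g : G, ∀ d ∈ D, g * d * g⁻¹ ∈ D := by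
    intro g d hd
    rw [hD] at hd ⊢
    exact (show IsConj d0 d from hd).trans (isConj_iff.mpr ⟨g, rfl⟩)
  have hconjugate : ∀ a ∈ D, ∀ b ∈ D, IsConj a b := by
    intro a ha b hb
    rw [hD] at ha hb
    exact (show IsConj d0 a from ha).symm.trans hb
  have key : ∀ x ∈ D, (∃ y ∈ D, y ≠ x ∧ Commute y x) ∧ (∃ z ∈ D, ¬ Commute z x) ∧
      (∀ a ∈ D, ∀ b ∈ D, a ≠ x → b ≠ x → (Commute a x ↔ Commute b x) →
        ∃ g : G, Commute g x ∧ g * a * g⁻¹ = b) := by
    intro x hx
    obtain ⟨y, hy, z, hz, hyx, hzx, -, hU⟩ := hrank x hx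
    have hmem : ∀ {a : G}, a ∈ D → a ≠ x → a ∈ orb x y ∨ a ∈ orb x z := by
      intro a ha hax
      rw [hU] at ha
      rcases ha with (h | h) | h
      · rw [orb_self] at h; exact absurd h hax
      · exact Or.inl h
      · exact Or.inr h
    have hmain : ∀ {y z : G}, y ∈ D → z ∈ D →
        orb x y ≠ orb x x → (∀ {a : G}, a ∈ D → a ≠ x → a ∈ orb x y ∨ a ∈ orb x z) →
        Commute y x → ¬ Commute z x → (∃ y ∈ D, y ≠ x ∧ Commute y x) ∧
        (∃ z ∈ D, ¬ Commute z x) ∧
        (∀ a ∈ D, ∀ b ∈ D, a ≠ x → b ≠ x → (Commute a x ↔ Commute b x) →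
          ∃ g : G, Commute g x ∧ g * a * g⁻¹ = b) := by
      intro y z hy hz hne hmem hc hn
      refine ⟨⟨y, hy, ne_of_orb_ne hne (mem_orb x y), hc⟩, ⟨z, hz, hn⟩, ?_⟩
      intro a ha b hb hax hbx hiff
      have same : ∀ {w : G}, a ∈ orb x w → b ∈ orb x w →
          ∃ g : G, Commute g x ∧ g * a * g⁻¹ = b := by
        intro w h1 h2
        rw [← orb_eq_of_mem h1] at h2
        exact h2
      rcases hmem ha hax with h1 | h1 <;> rcases hmem hb hbx with h2 | h2
      · exact same h1 h2
      · exact absurd ((mem_orb_commute_iff h2).mp (hiff.mp ((mem_orb_commute_iff h1).mpr hc))) hn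
      · exact absurd ((mem_orb_commute_iff h1).mp (hiff.mpr ((mem_orb_commute_iff h2).mpr hc))) hn
      · exact same h1 h2
    by_cases hcy : Commute y x <;> by_cases hcz : Commute z x
    · exfalso
      have hall : ∀ a ∈ D, Commute a x := by
        intro a ha
        by_cases h : a = x
        · exact h ▸ Commute.refl x
        rcases hmem ha h with h1 | h1
        · exact (mem_orb_commute_iff h1).mpr hcy
        · exact (mem_orb_commute_iff h1).mpr hcz
      refine false_of_commuting hx (hinv x hx) hgen hrad fun a ha b hb => ?_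
      obtain ⟨g, rfl⟩ := isConj_iff.mp (hconjugate x hx b hb)
      have h1 := hall (g⁻¹ * a * g) (by have := hconj g⁻¹ a ha; rwa [inv_inv] at this)
      have h2 := commute_conj h1 g
      rw [show g * (g⁻¹ * a * g) * g⁻¹ = a by group] at h2
      exact h2
    · exact hmain hy hz hyx hmem hcy hcz
    · exact hmain hz hy hzx (fun ha h => (hmem ha h).symm) hcz hcy
    · exfalso
      have hiso : IsIsolatedInvolution x := by
        refine ⟨hinv x hx, fun g hc => ?_⟩
        by_contra h
        rcases hmem (hconj g x hx) h with h1 | h1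
        · exact hcy ((mem_orb_commute_iff h1).mp hc.symm)
        · exact hcz ((mem_orb_commute_iff h1).mp hc.symm)
      have hcore := ZStar.commutatorsInCore_of_isolated hiso
      have hbot : pPrimeCore 2 G = ⊥ := hrad _ (Transfer.pPrimeCore_normal 2 G)
        (OddOrder.odd_order_solvable ZStar.odd_card_core)
      apply hcy
      have := hcore y
      rw [hbot, Subgroup.mem_bot, mul_inv_eq_one, mul_inv_eq_iff_eq_mul] at this
      exact this.symm
  exact ⟨hinv, hconj, hconjugate, hgen, hrad, fun x hx => (key x hx).2.1,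
    fun x hx => (key x hx).1, fun x hx => (key x hx).2.2⟩

namespace RankThree

variable {D : Set G} (hD : RankThree D)
include hD

/-- Noncommuting pairs are conjugate. -/
theorem noncommuting_conj {a b c d : G} (ha : a ∈ D) (hb : b ∈ D) (hc : c ∈ D) (hd : d ∈ D)
    (hab : ¬ Commute a b) (hcd : ¬ Commute c d) :
    ∃ g : G, g * a * g⁻¹ = c ∧ g * b * g⁻¹ = d := by
  obtain ⟨g, rfl⟩ := isConj_iff.mp (hD.conjugate a ha c hc)
  have h1 : ¬ Commute (g * b * g⁻¹) (g * a * g⁻¹) := fun h => hab ((commute_conj_iff g).mp h).symm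
  have n1 : g * b * g⁻¹ ≠ g * a * g⁻¹ := fun h => h1 (by rw [h])
  have n2 : d ≠ g * a * g⁻¹ := fun h => hcd (by rw [h])
  obtain ⟨k, hk, hkb⟩ := hD.trans _ hc _ (hD.conj g b hb) d hd n1 n2
    (iff_of_false h1 fun h => hcd h.symm)
  refine ⟨k * g, ?_, ?_⟩
  · calc k * g * a * (k * g)⁻¹ = k * (g * a * g⁻¹) * k⁻¹ := by group
      _ = g * a * g⁻¹ := by rw [hk.eq, mul_inv_cancel_right]
  · rw [← hkb]; group

/-- Commuting pairs of distinct members are conjugate. -/
theorem commuting_conj {a b c d : G} (ha : a ∈ D) (hb : b ∈ D) (hc : c ∈ D) (hd : d ∈ D)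
    (hab : Commute a b) (hne : a ≠ b) (hcd : Commute c d) (hne' : c ≠ d) :
    ∃ g : G, g * a * g⁻¹ = c ∧ g * b * g⁻¹ = d := by
  obtain ⟨g, rfl⟩ := isConj_iff.mp (hD.conjugate a ha c hc)
  have h1 : Commute (g * b * g⁻¹) (g * a * g⁻¹) := commute_conj hab.symm g
  have n1 : g * b * g⁻¹ ≠ g * a * g⁻¹ := fun h => hne (mul_left_cancel (mul_right_cancel h)).symm
  obtain ⟨k, hk, hkb⟩ := hD.trans _ hc _ (hD.conj g b hb) d hd n1 hne'.symm
    (iff_of_true h1 hcd.symm)
  refine ⟨k * g, ?_, ?_⟩
  · calc k * g * a * (k * g)⁻¹ = k * (g * a * g⁻¹) * k⁻¹ := by group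
      _ = g * a * g⁻¹ := by rw [hk.eq, mul_inv_cancel_right]
  · rw [← hkb]; group

theorem orderOf_noncommuting {a b c d : G} (ha : a ∈ D) (hb : b ∈ D) (hc : c ∈ D) (hd : d ∈ D)
    (hab : ¬ Commute a b) (hcd : ¬ Commute c d) : orderOf (a * b) = orderOf (c * d) := by
  obtain ⟨g, rfl, rfl⟩ := hD.noncommuting_conj ha hb hc hd hab hcd
  rw [conj_mul]
  exact SemiconjBy.orderOf_eq g (by simp [SemiconjBy, mul_assoc])

/-- The common order of the products of noncommuting members is an odd prime. -/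
theorem exists_prime_order [Finite G] {x : G} (hx : x ∈ D) :
    ∃ p : ℕ, p.Prime ∧ 3 ≤ p ∧ ∀ a ∈ D, ∀ b ∈ D, Commute a b ∨ orderOf (a * b) = p := by
  classical
  obtain ⟨y, hy, hyx⟩ := hD.nonabelian x hx
  have hxy : ¬ Commute x y := fun h => hyx h.symm
  have hx2 := hD.inv x hx
  have hy2 := hD.inv y hy
  have hxx := Invol.mul_self_of_orderOf_two hx2
  set n := orderOf (x * y) with hn
  have hall : ∀ a ∈ D, ∀ b ∈ D, Commute a b ∨ orderOf (a * b) = n := fun a ha b hb =>
    (em (Commute a b)).imp_right fun h => hD.orderOf_noncommuting ha hb hx hy h hxy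
  have hn1 : n ≠ 1 := by
    intro h
    rw [hn, orderOf_eq_one_iff, mul_eq_one_iff_eq_inv, Invol.inv_of_orderOf_two hy2] at h
    exact hxy (by rw [h])
  have hy' : y * x * y ∈ D := by
    have := hD.conj y x hx; rwa [Invol.inv_of_orderOf_two hy2] at this
  have hsq : (x * y) ^ 2 = x * (y * x * y) := by rw [pow_two]; simp only [mul_assoc]
  -- the product has odd order
  have hodd : Odd n := by
    by_contra hev
    have hc : Commute x (y * x * y) := by
      by_contra h
      have e := hD.orderOf_noncommuting hx hy' hx hy h hxy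
      rw [← hsq, orderOf_pow, ← hn] at e
      apply hev
      have hg : Nat.gcd n 2 = 1 := by
        have h2 : Nat.gcd n 2 ∣ n := Nat.gcd_dvd_left n 2
        have := Nat.div_mul_cancel h2
        rw [e] at this
        exact Nat.eq_of_mul_eq_mul_left (orderOf_pos (x * y)) (by rw [← hn, mul_one]; exact this)
      exact (Nat.coprime_two_right.mp hg)
    have h4 : (x * y) ^ 4 = 1 := by
      rw [show (4 : ℕ) = 2 * 2 from rfl, pow_mul, hsq, PSet.pow_two_of_commute hc hxx
        (Invol.mul_self_of_orderOf_two (hD.inv _ hy'))]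
    have hpair : ∀ g : G,
        IsPGroup 2 (Subgroup.closure ({x, g * x * g⁻¹} : Set G)) := by
      intro g
      set z := g * x * g⁻¹
      have hz : z ∈ D := hD.conj g x hx
      have hz2 := hD.inv z hz
      have hxz : (x * z) ^ 4 = 1 := by
        rcases hall x hx z hz with h | h
        · rw [show (4 : ℕ) = 2 * 2 from rfl, pow_mul,
            PSet.pow_two_of_commute h hxx (Invol.mul_self_of_orderOf_two hz2), one_pow]
        · rw [← orderOf_dvd_iff_pow_eq_one, h, hn, orderOf_dvd_iff_pow_eq_one]; exact h4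
      intro d
      refine ⟨2, Subtype.ext ?_⟩
      rw [SubmonoidClass.coe_pow, OneMemClass.coe_one]
      obtain ⟨k, h | h⟩ := (Invol.mem_closure_pair_iff hx2 hz2).mp d.2
      · rw [h, ← zpow_natCast, ← zpow_mul, mul_comm, zpow_mul, zpow_natCast,
          show (2 : ℕ) ^ 2 = 4 from rfl, hxz, one_zpow]
      · rw [h, show (2 : ℕ) ^ 2 = 2 * 2 from rfl, pow_mul, pow_two (x * _),
          Invol.left_mul_zpow_mul_self hx2 hz2, sub_self, zpow_zero, one_pow]
    have : Fact (Nat.Prime 2) := ⟨Nat.prime_two⟩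
    have hzp : IsPGroup 2 (Subgroup.zpowers x) :=
      (hpair 1).to_le (Subgroup.zpowers_le.mpr (Subgroup.subset_closure (Set.mem_insert _ _)))
    obtain ⟨g, hg⟩ := Baer.exists_conj_not_isPGroup hzp (a := x) (fun N hNn hNp hxN => by
      have : Group.IsNilpotent N := hNp.isNilpotent
      have := hD.radical N hNn inferInstance
      exact Invol.ne_one_of_orderOf_two hx2 (Subgroup.mem_bot.mp (this ▸ hxN)))
    exact hg (hpair g)
  have hn3 : 3 ≤ n := by
    obtain ⟨k, hk⟩ := hodd
    omega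
  refine ⟨n, ?_, hn3, hall⟩
  -- the order is prime
  obtain ⟨q, hq, hqn⟩ := Nat.exists_prime_and_dvd hn1
  suffices q = n from this ▸ hq
  have hqodd : Odd q := hodd.of_dvd_nat hqn
  obtain ⟨m, hm⟩ := hqodd
  set d := x * (x * y) ^ q with hd
  have hdD : d ∈ D := by
    have := Invol.conj_right hx2 hy2 (-(m : ℤ))
    have e : (1 : ℤ) - 2 * -(m : ℤ) = (q : ℕ) := by rw [hm]; push_cast; ring
    rw [e, zpow_natCast] at this
    rw [hd, ← this]
    exact hD.conj _ y hy
  have hxd : x * d = (x * y) ^ q := by rw [hd, ← mul_assoc, hxx, one_mul]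
  by_contra hne
  have hq1 := hq.one_lt
  rcases hall x hx d hdD with h | h
  · have h2 : (x * y) ^ (q * 2) = 1 := by
      rw [pow_mul, ← hxd, PSet.pow_two_of_commute h hxx
        (Invol.mul_self_of_orderOf_two (hD.inv d hdD))]
    have hdvd : n ∣ q * 2 := orderOf_dvd_of_pow_eq_one h2
    exact hne (Nat.dvd_antisymm hqn ((Nat.coprime_two_right.mpr hodd).dvd_of_dvd_mul_right hdvd))
  · rw [hxd, orderOf_pow, ← hn, Nat.gcd_eq_right hqn] at h
    have := Nat.div_lt_self (show 0 < n by omega) hq1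
    omega

end RankThree

end CfsgLib.RankThreeClass
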