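import Cfsg.Agent.Lib.RankThreeClass.Path
import Cfsg.Agent.Lib.RankThreeClass.Orbits

/-!
# A generating class of involutions with rank three consists of 3-transpositions
-/

set_option autoImplicit false

universe u

namespace CfsgLib.RankThreeClass

open Cfsg

variable {G : Type u} [Group G]

/-- The members different from `a` commuting with `a`. -/
def nbr (D : Set G) (a : G) : Set G := {s | s ∈ D ∧ Commute s a ∧ s ≠ a}

namespace RankThree

variable {D : Set G} (hD : RankThree D)
include hD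

theorem nbr_conj (g a : G) : nbr D (g * a * g⁻¹) = (fun s => g * s * g⁻¹) '' nbr D a := by
  ext s
  constructor
  · rintro ⟨hs, hc, hne⟩
    refine ⟨g⁻¹ * s * g, ⟨?_, ?_, ?_⟩, by group⟩
    · have := hD.conj g⁻¹ s hs; rwa [inv_inv] at this
    · have h := commute_conj hc g⁻¹
      simp only [inv_inv] at h
      convert h using 1
      group
    · intro h; apply hne; rw [← h]; group
  · rintro ⟨t, ⟨ht, hc, hne⟩, rfl⟩
    exact ⟨hD.conj g t ht, commute_conj hc g,
      fun h => hne (mul_left_cancel (mul_right_cancel h))⟩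

omit hD in
theorem conj_injective (g : G) : Function.Injective (fun s : G => g * s * g⁻¹) :=
  fun _ _ h => mul_left_cancel (mul_right_cancel h)

theorem not_comm_trans [Finite G] {p : ℕ} (hP : PSet p D) {x : G} (hx : x ∈ D) :
    ¬ CommTrans D := by
  intro htr
  obtain ⟨y, hy, hne, hc⟩ := hD.adjacent x hx
  have ht : ∀ d ∈ D, Commute (y * x * d * (y * x)⁻¹) d := by
    intro d hd
    by_cases hdy : Commute d y
    · have hdx : Commute d x := htr y hy d hd x hx hdy.symm hc
      rw [← (hdy.mul_right hdx).eq, mul_inv_cancel_right]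
    · have hdx : ¬ Commute d x := fun h => hdy (htr x hx d hd y hy h.symm hc.symm)
      have h1 := commute_conj (hP.star y hy x hx d hd hc hne hdy hdx) x
      rw [hP.inv_eq hx] at h1
      simp only [mul_assoc, hP.cancel hx, hP.sq hx, mul_one] at h1
      rw [mul_inv_rev, hP.inv_eq hy, hP.inv_eq hx]
      convert h1 using 1
      rw [← mul_assoc x y, ← hc.eq]
      simp only [mul_assoc]
  obtain ⟨N, hNn, hN2, hmem, -⟩ := hP.exists_normal_two htr hy hx hc ht
  have : Fact (Nat.Prime 2) := ⟨Nat.prime_two⟩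
  have : Group.IsNilpotent N := hN2.isNilpotent
  have hbot := hD.radical N hNn inferInstance
  rw [hbot, Subgroup.mem_bot, mul_eq_one_iff_eq_inv, hP.inv_eq hx] at hmem
  exact hne hmem

/-- Noncommuting members do not have the same neighbours. -/
theorem not_twins [Finite G] {y z : G} (hy : y ∈ D) (hz : z ∈ D) (hyz : ¬ Commute y z) :
    ¬ nbr D y ⊆ nbr D z := by
  intro h
  have twins : ∀ b ∈ D, ¬ Commute b y → nbr D y ⊆ nbr D b := by
    intro b hb hby
    obtain ⟨g, e1, e2⟩ := hD.noncommuting_conj hy hz hy hb hyz (fun hh => hby hh.symm)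
    rw [← e2, hD.nbr_conj g z]
    conv_lhs => rw [← e1, hD.nbr_conj g y]
    exact Set.image_mono h
  set X := {b | b ∈ D ∧ (¬ Commute b y ∨ b = y)} with hX
  set A := Subgroup.closure X with hA
  obtain ⟨w, hw, hwy, hcw⟩ := hD.adjacent y hy
  have hcomm : ∀ s ∈ nbr D y, ∀ b ∈ X, Commute s b := by
    rintro s hs b ⟨hb, h1 | rfl⟩
    · exact (twins b hb h1 hs).2.1
    · exact hs.2.1
  have hnorm : A.Normal := by
    rw [← Subgroup.normalizer_eq_top_iff (H := A), eq_top_iff, ← hD.gen, Subgroup.closure_le]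
    intro d hd
    by_cases hdX : d ∈ X
    · exact Subgroup.le_normalizer (Subgroup.subset_closure hdX)
    · have hdn : d ∈ nbr D y := by
        refine ⟨hd, ?_, fun h => hdX ⟨hd, Or.inr h⟩⟩
        by_contra hh
        exact hdX ⟨hd, Or.inl hh⟩
      refine Subgroup.centralizer_le_normalizer (A : Set G) ?_
      have hle : A ≤ Subgroup.centralizer {d} := by
        rw [hA, Subgroup.closure_le]
        intro b hb
        exact Subgroup.mem_centralizer_singleton_iff.mpr (hcomm d hdn b hb).symm.eq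
      intro v hv
      exact Subgroup.mem_centralizer_singleton_iff.mp (hle hv)
  have htop : A = ⊤ := by
    rw [eq_top_iff, ← hD.gen, Subgroup.closure_le]
    intro b hb
    obtain ⟨g, rfl⟩ := isConj_iff.mp (hD.conjugate y hy b hb)
    exact hnorm.conj_mem y (Subgroup.subset_closure ⟨hy, Or.inr rfl⟩) g
  have hcent : ∀ v : G, Commute w v := by
    intro v
    have hle : A ≤ Subgroup.centralizer {w} := by
      rw [hA, Subgroup.closure_le]
      intro b hb
      exact Subgroup.mem_centralizer_singleton_iff.mpr (hcomm w ⟨hw, hcw, hwy⟩ b hb).symm.eq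
    exact (Subgroup.mem_centralizer_singleton_iff.mp (hle (htop ▸ Subgroup.mem_top v))).symm
  obtain ⟨g, rfl⟩ := isConj_iff.mp (hD.conjugate w hw y hy)
  apply hyz
  rw [(hcent g).symm.eq, mul_inv_cancel_right]
  exact hcent z

/-- The parameters of the commuting graph are contradictory. -/
theorem false_of_pset [Finite G] {p : ℕ} (hP : PSet p D) {x : G} (hx : x ∈ D) : False := by
  classical
  have hnt := hD.not_comm_trans hP hx
  simp only [CommTrans, not_forall] at hnt
  obtain ⟨c, hc, y, hy, z, hz, hcy, hcz, hyz⟩ := hnt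
  have hcne1 : c ≠ y := fun h => hyz (h ▸ hcz)
  have hcne2 : c ≠ z := fun h => hyz ((h ▸ hcy : Commute z y).symm)
  obtain ⟨w, hw, hwz⟩ := Set.not_subset.mp (hD.not_twins hy hz hyz)
  have hwz' : ¬ Commute w z := fun h => hwz ⟨hw.1, h, fun e => hyz (e ▸ hw.2.1).symm⟩
  -- the common neighbours and the private neighbours
  set C := nbr D y ∩ nbr D z with hC
  set P := nbr D y \ nbr D z with hPdef
  set P' := nbr D z \ nbr D y with hP'def
  have hcC : c ∈ C := ⟨⟨hc, hcy, hcne1⟩, ⟨hc, hcz, hcne2⟩⟩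
  have hPC : ∀ q ∈ P, ∀ s ∈ C, Commute q s := by
    intro q hq s hs
    by_contra h
    have h1 := hP.path hq.1.1 hy hs.1.1 hz hq.1.2.1 hs.1.2.1.symm hs.2.2.1 hyz h
    exact hq.2 ⟨hq.1.1, h1, fun e => hyz (e ▸ hq.1.2.1).symm⟩
  have hP'C : ∀ q ∈ P', ∀ s ∈ C, Commute q s := by
    intro q hq s hs
    by_contra h
    have h1 := hP.path hq.1.1 hz hs.1.1 hy hq.1.2.1 hs.2.2.1.symm hs.1.2.1
      (fun h' => hyz h'.symm) h
    exact hq.2 ⟨hq.1.1, h1, fun e => hyz (e ▸ hq.1.2.1)⟩
  set k := (nbr D y).ncard with hk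
  have hkconst : ∀ {a : G}, a ∈ D → (nbr D a).ncard = k := by
    intro a ha
    obtain ⟨g, rfl⟩ := isConj_iff.mp (hD.conjugate y hy a ha)
    rw [hD.nbr_conj, Set.ncard_image_of_injective _ (conj_injective g)]
  have e1 : C.ncard + P.ncard = k :=
    Set.ncard_inter_add_ncard_sdiff_eq_ncard (nbr D y) (nbr D z) (Set.toFinite _)
  have e2 : C.ncard + P'.ncard = k := by
    have := Set.ncard_inter_add_ncard_sdiff_eq_ncard (nbr D z) (nbr D y) (Set.toFinite _)
    rwa [Set.inter_comm, hkconst hz] at this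
  -- neighbours of `c`
  set a := (C ∩ nbr D c).ncard with ha
  have hPc : P ⊆ nbr D c := fun q hq =>
    ⟨hq.1.1, hPC q hq c hcC, fun e => hq.2 (e ▸ hcC.2)⟩
  have hP'c : P' ⊆ nbr D c := fun q hq =>
    ⟨hq.1.1, hP'C q hq c hcC, fun e => hq.2 (e ▸ hcC.1)⟩
  have hlam : (nbr D y ∩ nbr D c).ncard = P.ncard + a := by
    have heq : nbr D y ∩ nbr D c = P ∪ (C ∩ nbr D c) := by
      ext s
      constructor
      · rintro ⟨h1, h2⟩
        by_cases h3 : s ∈ nbr D z
        · exact Or.inr ⟨⟨h1, h3⟩, h2⟩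
        · exact Or.inl ⟨h1, h3⟩
      · rintro (h | ⟨h1, h2⟩)
        · exact ⟨h.1, hPc h⟩
        · exact ⟨h1.1, h2⟩
    have hdis : Disjoint P (C ∩ nbr D c) :=
      Set.disjoint_left.mpr fun s h1 h2 => h1.2 h2.1.2
    rw [heq, Set.ncard_union_eq hdis (Set.toFinite _) (Set.toFinite _)]
  have hlam' : C.ncard ≤ P.ncard + a := by
    rw [← hlam]
    have hwy : w ≠ y := hw.2.2
    obtain ⟨g, g1, g2⟩ := hD.commuting_conj hy hw.1 hy hc hw.2.1.symm hwy.symm hcy.symm hcne1.symm
    have : (nbr D y ∩ nbr D c).ncard = (nbr D y ∩ nbr D w).ncard := by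
      rw [← g2, hD.nbr_conj g w]
      conv_lhs => rw [← g1, hD.nbr_conj g y, ← Set.image_inter (conj_injective g)]
      rw [Set.ncard_image_of_injective _ (conj_injective g)]
    rw [this]
    refine Set.ncard_le_ncard (fun s hs => ⟨hs.1, hs.1.1, ?_, ?_⟩) (Set.toFinite _)
    · exact (hPC w ⟨hw, hwz⟩ s hs).symm
    · exact fun e => hwz (e ▸ hs.2)
  have hbig : 2 + P.ncard + P'.ncard + a ≤ k := by
    have hsub : ({y, z} ∪ P) ∪ P' ∪ (C ∩ nbr D c) ⊆ nbr D c := by
      rintro s ((((rfl | rfl) | h) | h) | h)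
      · exact ⟨hy, hcy.symm, hcne1.symm⟩
      · exact ⟨hz, hcz.symm, hcne2.symm⟩
      · exact hPc h
      · exact hP'c h
      · exact h.2
    have hy' : ∀ {s : G}, s ∈ nbr D y → s ≠ y ∧ s ≠ z := fun h =>
      ⟨h.2.2, fun e => hyz (e ▸ h.2.1).symm⟩
    have hz' : ∀ {s : G}, s ∈ nbr D z → s ≠ y ∧ s ≠ z := fun h =>
      ⟨fun e => hyz (e ▸ h.2.1), h.2.2⟩
    have d1 : Disjoint ({y, z} : Set G) P := Set.disjoint_left.mpr fun s h1 h2 => by
      rcases h1 with rfl | rfl
      · exact (hy' h2.1).1 rfl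
      · exact (hy' h2.1).2 rfl
    have d2 : Disjoint ({y, z} ∪ P) P' := Set.disjoint_left.mpr fun s h1 h2 => by
      rcases h1 with (rfl | rfl) | h1
      · exact (hz' h2.1).1 rfl
      · exact (hz' h2.1).2 rfl
      · exact h2.2 h1.1
    have d3 : Disjoint (({y, z} ∪ P) ∪ P') (C ∩ nbr D c) := Set.disjoint_left.mpr fun s h1 h2 => by
      rcases h1 with ((rfl | rfl) | h1) | h1
      · exact (hy' h2.1.1).1 rfl
      · exact (hy' h2.1.1).2 rfl
      · exact h1.2 h2.1.2
      · exact h1.2 h2.1.1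
    have := Set.ncard_le_ncard hsub (Set.toFinite _)
    rw [Set.ncard_union_eq d3 (Set.toFinite _) (Set.toFinite _),
      Set.ncard_union_eq d2 (Set.toFinite _) (Set.toFinite _),
      Set.ncard_union_eq d1 (Set.toFinite _) (Set.toFinite _),
      Set.ncard_pair (show y ≠ z from fun h => hyz (h ▸ Commute.refl y)), hkconst hc] at this
    exact this
  omega

/-- The class consists of 3-transpositions. -/
theorem threeTransposition [Finite G] {x : G} (hx : x ∈ D) : IsThreeTranspositionSet D := by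
  obtain ⟨p, hp, hp3, hall⟩ := hD.exists_prime_order hx
  refine ⟨hD.inv, fun d hd e he => ?_⟩
  rcases hall d hd e he with h | h
  · exact Or.inl (PSet.pow_two_of_commute h (Invol.mul_self_of_orderOf_two (hD.inv d hd))
      (Invol.mul_self_of_orderOf_two (hD.inv e he)))
  · right
    suffices p = 3 by rw [← this, ← h, pow_orderOf_eq_one]
    by_contra hne
    have hp5 : 5 ≤ p := by
      rcases Nat.lt_or_ge p 5 with h5 | h5
      · have hp4 : p = 4 := by omega
        exact absurd (hp4 ▸ hp) (by decide)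
      · exact h5
    exact hD.false_of_pset ⟨hp, hp5, hD.inv, hD.conj, hall⟩ hx

end RankThree

end CfsgLib.RankThreeClass
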