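import Cfsg.Agent.Lib.RankThreeClass.Classes

/-!
# No three commuting members have a product centralizing a member not commuting with them
-/

set_option autoImplicit false

universe u

namespace CfsgLib.RankThreeClass

variable {G : Type u} [Group G]

/-- Three distinct commuting members and a fourth member centralized by their product but not
commuting with the first. -/
structure Quad (D : Set G) (x z e y : G) : Prop where
  hx : x ∈ D
  hz : z ∈ D
  he : e ∈ D
  hy : y ∈ D
  xz : x ≠ z
  xe : x ≠ e
  ze : z ≠ e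
  cxz : Commute x z
  cxe : Commute x e
  cze : Commute z e
  nyx : ¬ Commute y x
  prod : Commute (x * z * e) y

/-- The induction hypothesis: smaller groups have no such configuration. -/
def SmallerOK (p n : ℕ) : Prop :=
  ∀ (H : Type u) [Group H] [Finite H], Nat.card H < n → ∀ D : Set H, PSet p D →
    ∀ x z e y : H, ¬ Quad D x z e y

theorem PSet.mono {p : ℕ} {D E : Set G} (hD : PSet p D) (h : E ⊆ D)
    (hc : ∀ g : G, ∀ d ∈ E, g * d * g⁻¹ ∈ E) : PSet p E :=
  ⟨hD.prime, hD.five, fun d hd => hD.inv d (h hd), hc,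
    fun a ha b hb => hD.dich a (h ha) b (h hb)⟩

theorem closure_quad_eq_top [Finite G] {p : ℕ} {D : Set G} (hD : PSet p D)
    (IH : SmallerOK.{u} p (Nat.card G)) {x z e y : G} (q : Quad D x z e y) :
    Subgroup.closure ({x, z, e, y} : Set G) = ⊤ := by
  by_contra hne
  set H := Subgroup.closure ({x, z, e, y} : Set G) with hH
  have hlt : Nat.card H < Nat.card G :=
    lt_of_le_of_ne H.card_le_card_group fun h => hne (Subgroup.eq_top_of_card_eq H h)
  have hD' : PSet p {h : H | (h : G) ∈ D} := by
    refine ⟨hD.prime, hD.five, fun d hd => ?_, fun g d hd => hD.conj g d hd, fun a ha b hb => ?_⟩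
    · rw [← Subgroup.orderOf_coe]; exact hD.inv _ hd
    · rcases hD.dich _ ha _ hb with h | h
      · exact Or.inl (Subtype.ext h)
      · exact Or.inr (by rw [← Subgroup.orderOf_coe]; exact h)
  have m : ∀ {w : G}, w ∈ ({x, z, e, y} : Set G) → w ∈ H := fun h => Subgroup.subset_closure h
  exact IH H hlt _ hD' ⟨x, m (by simp)⟩ ⟨z, m (by simp)⟩ ⟨e, m (by simp)⟩ ⟨y, m (by simp)⟩
    ⟨q.hx, q.hz, q.he, q.hy, fun h => q.xz (congrArg Subtype.val h),
      fun h => q.xe (congrArg Subtype.val h), fun h => q.ze (congrArg Subtype.val h),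
      Subtype.ext q.cxz, Subtype.ext q.cxe, Subtype.ext q.cze,
      fun h => q.nyx (congrArg Subtype.val h), Subtype.ext q.prod⟩

theorem mem_center_of_closure {S : Set G} (h : Subgroup.closure S = ⊤) {c : G}
    (hc : ∀ s ∈ S, Commute c s) : c ∈ Subgroup.center G := by
  rw [Subgroup.mem_center_iff]
  intro g
  have hg : g ∈ Subgroup.centralizer {c} := by
    have : Subgroup.closure S ≤ Subgroup.centralizer {c} := by
      rw [Subgroup.closure_le]
      intro s hs
      exact Subgroup.mem_centralizer_singleton_iff.mpr (hc s hs).symm.eq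
    exact this (h ▸ Subgroup.mem_top g)
  exact Subgroup.mem_centralizer_singleton_iff.mp hg

theorem Quad.product_central [Finite G] {p : ℕ} {D : Set G} (hD : PSet p D)
    (IH : SmallerOK.{u} p (Nat.card G)) {x z e y : G} (q : Quad D x z e y) :
    x * z * e ∈ Subgroup.center G := by
  refine mem_center_of_closure (closure_quad_eq_top hD IH q) ?_
  rintro s (rfl | rfl | rfl | rfl)
  · exact ((Commute.refl s).mul_left q.cxz.symm).mul_left q.cxe.symm
  · exact (q.cxz.mul_left (Commute.refl s)).mul_left q.cze.symm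
  · exact (q.cxe.mul_left q.cze).mul_left (Commute.refl s)
  · exact q.prod

/-- A configuration survives modulo a normal subgroup avoiding the relevant products. -/
theorem Quad.false_of_normal [Finite G] {p : ℕ} {D : Set G} (hD : PSet p D)
    (IH : SmallerOK.{u} p (Nat.card G)) {x z e y : G} (q : Quad D x z e y)
    (N : Subgroup G) [N.Normal] (hN : N ≠ ⊥) (hDN : ∀ d ∈ D, d ∉ N) (h1 : x * z ∉ N)
    (h2 : x * e ∉ N) (h3 : z * e ∉ N) (h4 : (x * y) ^ 2 ∉ N) : False := by
  have hlt : Nat.card (G ⧸ N) < Nat.card G := by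
    rw [N.card_eq_card_quotient_mul_card_subgroup]
    exact lt_mul_right Nat.card_pos ((Subgroup.one_lt_card_iff_ne_bot N).mpr hN)
  have hne : ∀ {a b : G}, a ∈ D → a * b ∉ N → (a : G ⧸ N) ≠ (b : G ⧸ N) := by
    intro a b ha hab h
    apply hab
    rw [QuotientGroup.eq, hD.inv_eq ha] at h
    exact h
  have hD' : PSet p ((fun g : G => (g : G ⧸ N)) '' D) := by
    refine ⟨hD.prime, hD.five, ?_, ?_, ?_⟩
    · rintro _ ⟨d, hd, rfl⟩
      refine Invol.orderOf_two_of_mul_self (by rw [← QuotientGroup.mk_mul, hD.sq hd,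
        QuotientGroup.mk_one]) fun h => hDN d hd ((QuotientGroup.eq_one_iff d).mp h)
    · intro g
      induction g using QuotientGroup.induction_on with
      | H g =>
        rintro _ ⟨d, hd, rfl⟩
        exact ⟨g * d * g⁻¹, hD.conj g d hd, rfl⟩
    · rintro _ ⟨a, ha, rfl⟩ _ ⟨b, hb, rfl⟩
      rcases hD.dich a ha b hb with h | h
      · exact Or.inl (h.map (QuotientGroup.mk' N))
      · have hdvd := orderOf_map_dvd (QuotientGroup.mk' N) (a * b)
        rw [h] at hdvd
        rcases (Nat.dvd_prime hD.prime).mp hdvd with h1 | h1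
        · left
          rw [orderOf_eq_one_iff, map_mul, mul_eq_one_iff_eq_inv] at h1
          show Commute (QuotientGroup.mk' N a) (QuotientGroup.mk' N b)
          rw [h1]
          exact (Commute.refl _).inv_left
        · exact Or.inr h1
  refine IH (G ⧸ N) hlt _ hD' x z e y ⟨⟨x, q.hx, rfl⟩, ⟨z, q.hz, rfl⟩, ⟨e, q.he, rfl⟩,
    ⟨y, q.hy, rfl⟩, hne q.hx h1, hne q.hx h2, hne q.hz h3, q.cxz.map (QuotientGroup.mk' N),
    q.cxe.map (QuotientGroup.mk' N), q.cze.map (QuotientGroup.mk' N), fun h => h4 ?_,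
    q.prod.map (QuotientGroup.mk' N)⟩
  rw [← QuotientGroup.eq_one_iff, QuotientGroup.mk_pow, QuotientGroup.mk_mul, pow_two]
  have hx2 : (x : G ⧸ N) * x = 1 := by rw [← QuotientGroup.mk_mul, hD.sq q.hx, QuotientGroup.mk_one]
  have hy2 : (y : G ⧸ N) * y = 1 := by rw [← QuotientGroup.mk_mul, hD.sq q.hy, QuotientGroup.mk_one]
  calc (x : G ⧸ N) * y * (x * y) = x * (y * x) * y := by simp only [mul_assoc]
    _ = x * (x * y) * y := by rw [h.eq]
    _ = 1 := by rw [← mul_assoc, hx2, one_mul, hy2]

theorem not_quad_aux (p : ℕ) : ∀ n : ℕ, ∀ (G : Type u) [Group G] [Finite G], Nat.card G = n →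
    ∀ D : Set G, PSet p D → ∀ x z e y : G, ¬ Quad D x z e y := by
  intro n
  induction n using Nat.strong_induction_on with
  | _ n ih =>
  intro G _ _ hn D0 hD0 x z e y q0
  have IH : SmallerOK.{u} p (Nat.card G) := fun H _ _ hlt => ih _ (hn ▸ hlt) H rfl
  have hp5 := hD0.five
  have hg := q0.product_central hD0 IH
  have hcent : ∀ {w : G}, Commute (x * z * e) w := fun {w} =>
    (Subgroup.mem_center_iff.mp hg w).symm
  -- the fourth member commutes with none of the three
  have nyz : ¬ Commute y z := by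
    intro h
    have hc : Commute (x * e) y := by
      have e1 : x * e = x * z * e * z := by
        rw [mul_assoc (x * z), ← q0.cze.eq, mul_assoc x z, ← mul_assoc z z, hD0.sq q0.hz, one_mul]
      rw [e1]
      exact hcent.mul_left h.symm
    exact q0.nyx (hD0.commute_of_commute_mul q0.hy q0.hx q0.he q0.cxe q0.xe hc.symm).1
  have nye : ¬ Commute y e := by
    intro h
    have hc : Commute (x * z) y := by
      have e1 : x * z = x * z * e * e := by rw [mul_assoc (x * z), hD0.sq q0.he, mul_one]
      rw [e1]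
      exact hcent.mul_left h.symm
    exact q0.nyx (hD0.commute_of_commute_mul q0.hy q0.hx q0.hz q0.cxz q0.xz hc.symm).1
  -- restrict to one class
  set D : Set G := conjugatesOf x with hDdef
  have hsub : D ⊆ D0 := by
    intro w hw
    obtain ⟨g, rfl⟩ := isConj_iff.mp (show IsConj x w from hw)
    exact hD0.conj g x q0.hx
  have hD : PSet p D := hD0.mono hsub fun g d hd =>
    (show IsConj x d from hd).trans (isConj_iff.mpr ⟨g, rfl⟩)
  have hxy : IsConj x y := hD0.isConj q0.hx q0.hy fun h => q0.nyx h.symm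
  have q : Quad D x z e y := ⟨mem_conjugatesOf_self,
    (hxy.trans (hD0.isConj q0.hy q0.hz nyz)),
    (hxy.trans (hD0.isConj q0.hy q0.he nye)),
    hxy, q0.xz, q0.xe, q0.ze, q0.cxz, q0.cxe, q0.cze, q0.nyx, q0.prod⟩
  have hconj : ∀ a ∈ D, ∀ b ∈ D, IsConj a b := fun a ha b hb =>
    (show IsConj x a from ha).symm.trans (show IsConj x b from hb)
  have hmoved : ∀ d ∈ D, ∃ d' ∈ D, ¬ Commute d d' := by
    intro d hd
    obtain ⟨g, rfl⟩ := isConj_iff.mp (hconj x q.hx d hd)
    exact ⟨g * y * g⁻¹, hD.conj g y q.hy, fun h => q.nyx ((commute_conj_iff g).mp h).symm⟩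
  -- trivial centre
  have hZ : Subgroup.center G = ⊥ := by
    by_contra hne
    have hz : ∀ {w : G}, w ∈ Subgroup.center G → Commute y w := fun hw =>
      Subgroup.mem_center_iff.mp hw y
    refine q.false_of_normal hD IH (Subgroup.center G) hne ?_ ?_ ?_ ?_ ?_
    · intro d hd hdc
      obtain ⟨d', -, hn'⟩ := hmoved d hd
      exact hn' (Subgroup.mem_center_iff.mp hdc d').symm
    · exact fun h => q.nyx (hD.commute_of_commute_mul q.hy q.hx q.hz q.cxz q.xz (hz h)).1
    · exact fun h => q.nyx (hD.commute_of_commute_mul q.hy q.hx q.he q.cxe q.xe (hz h)).1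
    · exact fun h => nyz (hD.commute_of_commute_mul q.hy q.hz q.he q.cze q.ze (hz h)).1
    · intro h
      have hn' : ¬ Commute x y := fun h' => q.nyx h'.symm
      have hc : Commute x ((x * y) ^ 2) := Subgroup.mem_center_iff.mp h x
      have e4 : ((x * y) ^ 2) ^ 2 = 1 := by
        have e1 : x * (x * y) ^ 2 * x⁻¹ = ((x * y) ^ 2)⁻¹ := by
          rw [← conj_pow, hD.inv_eq q.hx, hD.cancel q.hx, ← inv_pow, mul_inv_rev,
            hD.inv_eq q.hx, hD.inv_eq q.hy]
        rw [hc.eq, mul_inv_cancel_right, eq_inv_iff_mul_eq_one] at e1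
        rw [pow_two ((x * y) ^ 2), e1]
      rw [← pow_mul] at e4
      have := Nat.le_of_dvd (by norm_num) (hD.dvd_of_pow q.hx q.hy hn' e4)
      omega
  have hex : e = x * z := by
    have h1 : x * z * e = 1 := (Subgroup.mem_bot).mp (hZ ▸ hg)
    rw [mul_eq_one_iff_eq_inv, hD.inv_eq q.he] at h1
    exact h1.symm
  have htri0 : ∀ a ∈ D, ∃ c ∈ D, a ≠ c ∧ Commute a c ∧ a * c ∈ D := by
    intro a ha
    obtain ⟨g, rfl⟩ := isConj_iff.mp (hconj x q.hx a ha)
    refine ⟨g * z * g⁻¹, hD.conj g z q.hz, fun h => q.xz ?_, commute_conj q.cxz g, ?_⟩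
    · exact mul_left_cancel (mul_right_cancel h)
    · rw [conj_mul, ← hex]; exact hD.conj g e q.he
  -- the centralizer lemma
  have hcentr : ∀ a ∈ D, ∀ b ∈ D, ∀ d ∈ D, a * b ∈ D → Commute a b → a ≠ b → ¬ Commute d a →
      ∀ c : G, Commute c a → Commute c b → Commute c d → c = 1 := by
    intro a ha b hb d hd hab hc hne hda c h1 h2 h3
    have q' : Quad D a b (a * b) d := by
      refine ⟨ha, hb, hab, hd, hne, ?_, ?_, hc, (Commute.refl a).mul_right hc,
        hc.symm.mul_right (Commute.refl b), hda, ?_⟩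
      · intro h; exact hD.ne_one hb (by simpa using h)
      · intro h; exact hD.ne_one ha (by simpa using h)
      · rw [hD.sq hab]; exact Commute.one_left d
    have : c ∈ Subgroup.center G := by
      refine mem_center_of_closure (closure_quad_eq_top hD IH q') ?_
      rintro s (rfl | rfl | rfl | rfl)
      · exact h1
      · exact h2
      · exact h1.mul_right h2
      · exact h3
    exact Subgroup.mem_bot.mp (hZ ▸ this)
  -- commuting is transitive
  have htr : CommTrans D := by
    intro s hs a ha b hb hsa hsb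
    by_contra hab
    obtain ⟨c, hc, hac, hcc, hacD⟩ := htri0 a ha
    have hsc : Commute s c := by
      have e1 : c * (a * c) = a := by rw [hcc.eq, hD.cancel hc]
      refine (hD.commute_of_commute_mul hs hc hacD (hcc.symm.mul_right (Commute.refl c)) ?_
        (e1.symm ▸ hsa)).1
      intro h
      exact hD.ne_one ha (by simpa using h)
    exact hD.ne_one hs (hcentr a ha c hc b hb hacD hcc hac (fun h => hab h.symm) s hsa hsc hsb)
  -- classes are closed under products
  have htri : ∀ a ∈ D, ∀ b ∈ D, Commute a b → a ≠ b → a * b ∈ D := by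
    intro a ha b hb hab hne
    by_cases hA : ∃ w ∈ D, ¬ Commute w a ∧ ¬ Commute (a * w * a) (b * w * b)
    · obtain ⟨w, hw, hwa, hst⟩ := hA
      have hwb : ¬ Commute w b := fun h => hwa (htr b hb w hw a ha h.symm hab.symm)
      obtain ⟨f, hf, haf, hbf, hcaf, hcbf, hpr⟩ := hD.exists_quad ha hb hw hab hne hwa hwb hst
      have h1 := (Quad.product_central hD IH
        ⟨ha, hb, hf, hw, hne, haf, hbf, hab, hcaf, hcbf, hwa, hpr⟩)
      rw [hZ, Subgroup.mem_bot, mul_eq_one_iff_eq_inv, hD.inv_eq hf] at h1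
      exact h1 ▸ hf
    · push Not at hA
      exfalso
      have ht : ∀ d ∈ D, Commute (a * b * d * (a * b)⁻¹) d := by
        intro d hd
        by_cases hda : Commute d a
        · have hdb : Commute d b := htr a ha d hd b hb hda.symm hab
          rw [← (hda.mul_right hdb).eq, mul_inv_cancel_right]
        · have h1 := commute_conj (hA d hd hda) b
          rw [hD.inv_eq hb] at h1
          simp only [mul_assoc, hD.cancel hb, hD.sq hb, mul_one] at h1
          rw [mul_inv_rev, hD.inv_eq ha, hD.inv_eq hb]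
          convert h1 using 1
          rw [← mul_assoc b a, ← hab.eq]
          simp only [mul_assoc]
      obtain ⟨N, hNn, hN2, htN, hNK⟩ := hD.exists_normal_two htr ha hb hab ht
      have hout : ∀ d ∈ D, d ∉ N := by
        intro d hd hdN
        obtain ⟨d', hd', hn'⟩ := hmoved d hd
        have h1 := hNK d hdN d' hd'
        rw [hD.inv_eq hd] at h1
        exact hn' (hD.commute_of_commute_conj hd hd' h1)
      refine q.false_of_normal hD IH N ?_ hout ?_ ?_ ?_ ?_
      · intro h
        rw [h, Subgroup.mem_bot, mul_eq_one_iff_eq_inv, hD.inv_eq hb] at htN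
        exact hne htN
      · rw [← hex]; exact hout e q.he
      · rw [hex, hD.cancel q.hx]; exact hout z q.hz
      · rw [hex, q.cxz.eq, hD.cancel q.hz]; exact hout x q.hx
      · intro h
        obtain ⟨k, hk⟩ := hN2 ⟨_, h⟩
        have hk' : ((x * y) ^ 2) ^ 2 ^ k = 1 := congrArg Subtype.val hk
        rw [← pow_mul, ← pow_succ'] at hk'
        have h2 := hD.prime.dvd_of_dvd_pow (hD.dvd_of_pow q.hx q.hy (fun h' => q.nyx h'.symm) hk')
        have := Nat.le_of_dvd (by norm_num) h2
        omega
  have hT : TriSet p D :=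
    { toPSet := hD
      trans := htr
      tri := htri
      cent := fun a ha b hb d hd hab hne hda =>
        hcentr a ha b hb d hd (htri a ha b hb hab hne) hab hne hda
      conjugate := hconj
      pair := fun a ha => by
        obtain ⟨c, hc, h1, h2, -⟩ := htri0 a ha
        exact ⟨c, hc, h1, h2⟩
      nonabelian := ⟨y, q.hy, x, q.hx, q.nyx⟩ }
  exact hT.false

/-- No group has such a configuration. -/
theorem PSet.not_quad {p : ℕ} {D : Set G} [Finite G] (hD : PSet p D) (x z e y : G) :
    ¬ Quad D x z e y :=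
  not_quad_aux p _ G rfl D hD x z e y

/-- The images of `y` under the members of a commuting pair commute. -/
theorem PSet.star {p : ℕ} {D : Set G} [Finite G] (hD : PSet p D) : Star D := by
  intro x hx z hz y hy hxz hne hyx hyz
  by_contra h
  obtain ⟨e, he, hxe, hze, hcxe, hcze, hpr⟩ := hD.exists_quad hx hz hy hxz hne hyx hyz h
  exact hD.not_quad x z e y ⟨hx, hz, he, hy, hne, hxe, hze, hxz, hcxe, hcze, hyx, hpr⟩

end CfsgLib.RankThreeClass
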