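import Cfsg.Agent.Lib.RankThreeClass.NoQuad

/-!
# Paths of length three in the commuting graph
-/

set_option autoImplicit false

namespace CfsgLib.RankThreeClass

variable {G : Type*} [Group G] {p : ℕ} {D : Set G}

/-- Three noncommuting members whose images under `x` commute with the others cannot exist. -/
theorem PSet.triangle_false [Finite G] (hD : PSet p D) {x : G} (hx : x ∈ D) (Q : Fin 3 → G)
    (hQ : ∀ i, Q i ∈ D) (hA : ∀ i j, i ≠ j → ¬ Commute (Q i) (Q j))
    (hB : ∀ i j, i ≠ j → Commute (x * Q i * x) (Q j)) (hC : ∀ i, ¬ Commute x (Q i)) : False := by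
  have swap : ∀ a b c : Fin 3, a ≠ b → a ≠ c → b ≠ c →
      ∃ e ∈ D, e * Q b * e = Q a ∧ e * Q a * e = Q b ∧ e * Q c * e = Q c := by
    intro a b c hab hac hbc
    obtain ⟨e, he, hee⟩ := hD.exists_mid (hQ b) (hQ a) (hA b a hab.symm)
    have hne : Q a ≠ x * Q b * x := fun h => hA a c hac (h ▸ hB b c hbc)
    have hex : Commute e x :=
      hD.mid_commute hD.star (hQ a) (hD.mem_self hx (hQ b)) (hQ b) he hx
        (hB b a hab.symm).symm hne (hA a b hab) (hD.not_commute_conj hx (hQ b) (hC b)) hee rfl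
    have hs : Commute (x * Q c * x) e :=
      hD.mid_commute_common (hQ b) (hQ a) he (hA b a hab.symm) hee (hB c b hbc.symm)
        (hB c a hac.symm)
    have hec : Commute e (Q c) := by
      have h1 := (hex.mul_right hs.symm).mul_right hex
      simp only [mul_assoc, hD.cancel hx, hD.sq hx, mul_one] at h1
      exact h1
    refine ⟨e, he, hee, ?_, (hD.conj_eq_iff he (Q c)).mpr hec⟩
    rw [← hee]
    simp only [mul_assoc, hD.cancel he, hD.sq he, mul_one]
  obtain ⟨u, hu, hu1, hu0, hu2⟩ := swap 0 1 2 (by decide) (by decide) (by decide)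
  obtain ⟨v, hv, hv2, hv1, hv0⟩ := swap 1 2 0 (by decide) (by decide) (by decide)
  set g := v * u with hg
  have hgi : g⁻¹ = u * v := by rw [hg, mul_inv_rev, hD.inv_eq hu, hD.inv_eq hv]
  have step : ∀ w : G, g * w * g⁻¹ = v * (u * w * u) * v := fun w => by
    rw [hgi, hg]; simp only [mul_assoc]
  have h0 : g * Q 0 * g⁻¹ = Q 2 := by rw [step, hu0, hv1]
  have h2 : g * Q 2 * g⁻¹ = Q 1 := by rw [step, hu2, hv2]
  have h1 : g * Q 1 * g⁻¹ = Q 0 := by rw [step, hu1, hv0]
  have h02 : g ^ 2 * Q 0 * (g ^ 2)⁻¹ = Q 1 := by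
    rw [pow_two, show g * g * Q 0 * (g * g)⁻¹ = g * (g * Q 0 * g⁻¹) * g⁻¹ by group, h0, h2]
  have h3 : Commute (g ^ 3) (Q 0) := by
    refine mul_inv_eq_iff_eq_mul.mp ?_
    rw [pow_succ' g 2, show g * g ^ 2 * Q 0 * (g * g ^ 2)⁻¹ = g * (g ^ 2 * Q 0 * (g ^ 2)⁻¹) * g⁻¹ by
      group, h02, h1]
  have n01 : Q 0 ≠ Q 1 := fun h => hA 0 1 (by decide) (h ▸ Commute.refl _)
  have n02 : Q 0 ≠ Q 2 := fun h => hA 0 2 (by decide) (h ▸ Commute.refl _)
  rcases hD.dich v hv u hu with hc | hc
  · apply n01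
    rw [← h02, hg, PSet.pow_two_of_commute hc (hD.sq hv) (hD.sq hu), one_mul, inv_one, mul_one]
  · have hgp : g ^ p = 1 := by rw [hg, ← hc, pow_orderOf_eq_one]
    have hfix : g ^ p * Q 0 * (g ^ p)⁻¹ = Q 0 := by rw [hgp, one_mul, inv_one, mul_one]
    have h3t : ∀ r, g ^ (r + 3 * (p / 3)) * Q 0 * (g ^ (r + 3 * (p / 3)))⁻¹ =
        g ^ r * Q 0 * (g ^ r)⁻¹ := by
      intro r
      rw [pow_add, pow_mul, mul_inv_rev, ← mul_assoc, mul_assoc (g ^ r) _ (Q 0),
        (h3.pow_left (p / 3)).eq]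
      group
    have hp3 : p % 3 = 1 ∨ p % 3 = 2 := by
      rcases (show p % 3 = 0 ∨ p % 3 = 1 ∨ p % 3 = 2 by omega) with h | h | h
      · have := hD.five
        have := (Nat.prime_dvd_prime_iff_eq Nat.prime_three hD.prime).mp (Nat.dvd_of_mod_eq_zero h)
        omega
      · exact Or.inl h
      · exact Or.inr h
    rcases hp3 with h | h
    · apply n02
      have := h3t 1
      rw [show 1 + 3 * (p / 3) = p by omega, hfix, pow_one, h0] at this
      exact this
    · apply n01
      have := h3t 2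
      rw [show 2 + 3 * (p / 3) = p by omega, hfix, h02] at this
      exact this

/-- On a path `q, y, x, z` with `y`, `z` noncommuting, `q` commutes with `x` or with `z`. -/
theorem PSet.path [Finite G] (hD : PSet p D) {q y x z : G} (hq : q ∈ D) (hy : y ∈ D) (hx : x ∈ D)
    (hz : z ∈ D) (hqy : Commute q y) (hyx : Commute y x) (hxz : Commute x z)
    (hyz : ¬ Commute y z) (hqx : ¬ Commute q x) : Commute q z := by
  by_contra hqz
  set h := y * z with hh
  have hord : orderOf h = p := hD.orderOf_eq hy hz hyz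
  have hxh : Commute x h := hyx.symm.mul_right hxz
  have hsmall : ∀ n, 0 < n → n < 3 → ¬ p ∣ 2 * n := by
    intro n h1 h2 hd
    have := hD.five
    rcases hD.prime.dvd_mul.mp hd with h | h
    · have := Nat.le_of_dvd (by norm_num) h; omega
    · have := Nat.le_of_dvd h1 h; omega
  have hr : ∀ n, 0 < n → n < 3 → ∃ r ∈ D, Commute r x ∧ r ≠ x ∧ ¬ Commute r q ∧
      h ^ n * q * (h ^ n)⁻¹ = r * q * r := by
    intro n h1 h2
    set r0 := y * h ^ n with hr0
    have hr0D : r0 ∈ D := hD.refl_mem hy hz n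
    set r := y * r0 * y with hr
    have hrD : r ∈ D := hD.mem_self hy hr0D
    have hhn : h ^ n = r * y := by
      rw [hr, hr0]; simp only [mul_assoc, hD.cancel hy, hD.sq hy, mul_one]
    have hrx : Commute r x :=
      (hyx.mul_left (hyx.mul_left (hxh.symm.pow_left n))).mul_left hyx
    have hry : ¬ Commute r y := by
      intro hc
      have : h ^ (2 * n) = 1 := by
        rw [mul_comm, pow_mul, hhn, PSet.pow_two_of_commute hc (hD.sq hrD) (hD.sq hy)]
      exact hsmall n h1 h2 (hord ▸ orderOf_dvd_of_pow_eq_one this)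
    refine ⟨r, hrD, hrx, fun e => hry (e ▸ hyx.symm), ?_, ?_⟩
    · intro hc
      have hcn : Commute (h ^ n) q := by rw [hhn]; exact hc.mul_left hqy.symm
      have hcop : n.Coprime (orderOf h) := by
        rw [hord]
        exact ((Nat.Prime.coprime_iff_not_dvd hD.prime).mpr
          fun hd => hsmall n h1 h2 (hd.mul_left 2)).symm
      obtain ⟨m, hm⟩ := exists_pow_eq_self_of_coprime hcop
      have hch : Commute h q := hm ▸ hcn.pow_left m
      apply hqz
      have := hqy.mul_right hch.symm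
      rwa [hh, hD.cancel hy] at this
    · rw [hhn, mul_inv_rev, hD.inv_eq hy, hD.inv_eq hrD]
      have e : y * q * y = q := (hD.conj_eq_iff hy q).mpr hqy.symm
      calc r * y * q * (y * r) = r * (y * q * y) * r := by simp only [mul_assoc]
        _ = r * q * r := by rw [e]
  let Q : Fin 3 → G := fun i => h ^ (i : ℕ) * q * (h ^ (i : ℕ))⁻¹
  have hx' : ∀ n : ℕ, h ^ n * x * (h ^ n)⁻¹ = x := fun n => by
    rw [(hxh.pow_right n).symm.eq, mul_inv_cancel_right]
  have base : ∀ i j : Fin 3, i < j →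
      ¬ Commute (Q i) (Q j) ∧ Commute (x * Q i * x) (Q j) := by
    intro i j hij
    obtain ⟨r, hrD, hrx, hne, hrq, he⟩ := hr ((j : ℕ) - i) (by omega) (by omega)
    have hQj : Q j = h ^ (i : ℕ) * (r * q * r) * (h ^ (i : ℕ))⁻¹ := by
      rw [← he]
      show h ^ (j : ℕ) * q * (h ^ (j : ℕ))⁻¹ = _
      rw [show (j : ℕ) = i + ((j : ℕ) - i) by omega, pow_add, mul_inv_rev,
        show (i : ℕ) + ((j : ℕ) - i) - i = (j : ℕ) - i by omega]
      simp only [mul_assoc]
    have hQi : x * Q i * x = h ^ (i : ℕ) * (x * q * x) * (h ^ (i : ℕ))⁻¹ := by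
      rw [← conj_mul, ← conj_mul, hx']
    refine ⟨?_, ?_⟩
    · rw [hQj, commute_conj_iff]
      exact fun hc => hrq (hD.commute_of_commute_conj hrD hq hc.symm)
    · rw [hQi, hQj]
      exact commute_conj (hD.star x hx r hrD q hq hrx.symm hne.symm hqx (fun hc => hrq hc.symm)) _
  refine hD.triangle_false hx Q (fun i => hD.conj _ q hq) ?_ ?_ ?_
  · intro i j hij
    rcases lt_or_gt_of_ne hij with h1 | h1
    · exact (base i j h1).1
    · exact fun hc => (base j i h1).1 hc.symm
  · intro i j hij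
    rcases lt_or_gt_of_ne hij with h1 | h1
    · exact (base i j h1).2
    · have h2 := commute_conj (base j i h1).2 x
      rw [hD.inv_eq hx] at h2
      simp only [mul_assoc, hD.cancel hx, hD.sq hx, mul_one] at h2
      simpa only [mul_assoc] using h2.symm
  · intro i hc
    rw [← hx' i, commute_conj_iff] at hc
    exact hqx hc.symm

end CfsgLib.RankThreeClass
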