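import Cfsg.Agent.Lib.RankThreeClass.TwoCore

/-!
# Classes closed under products: basic structure

`TriSet` is the situation of a minimal counterexample: commuting is transitive, each class with `1`
is an elementary abelian group, and two distinct members of a class together with a member outside
it have trivial centralizer.
-/

set_option autoImplicit false

namespace CfsgLib.RankThreeClass

variable {G : Type*} [Group G]

/-- See the header. -/
structure TriSet (p : ℕ) (D : Set G) : Prop extends PSet p D where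
  trans : CommTrans D
  tri : ∀ a ∈ D, ∀ b ∈ D, Commute a b → a ≠ b → a * b ∈ D
  cent : ∀ a ∈ D, ∀ b ∈ D, ∀ d ∈ D, Commute a b → a ≠ b → ¬ Commute d a →
    ∀ c : G, Commute c a → Commute c b → Commute c d → c = 1
  conjugate : ∀ a ∈ D, ∀ b ∈ D, IsConj a b
  pair : ∀ a ∈ D, ∃ b ∈ D, a ≠ b ∧ Commute a b
  nonabelian : ∃ a ∈ D, ∃ b ∈ D, ¬ Commute a b

/-- The members commuting with `a`. -/
def cls (D : Set G) (a : G) : Set G := {s | s ∈ D ∧ Commute s a}

/-- The members mapping the class of `r` to the class of `q`. -/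
def swapSet (D : Set G) (r q : G) : Set G := {d | d ∈ D ∧ Commute (d * r * d) q}

/-- An element of order dividing a prime `p` moves a point through `p` different positions. -/
theorem conj_pow_injOn {p : ℕ} (hp : p.Prime) {w r : G} (hw : w ^ p = 1) (h : ¬ Commute w r) :
    Set.InjOn (fun i : ℕ => w ^ i * r * (w ^ i)⁻¹) (Set.Iio p) := by
  have key : ∀ i j : ℕ, i < j → j < p → w ^ i * r * (w ^ i)⁻¹ ≠ w ^ j * r * (w ^ j)⁻¹ := by
    intro i j hij hj e
    obtain ⟨d, rfl⟩ := Nat.exists_eq_add_of_le hij.le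
    have hc : Commute (w ^ d) r := by
      rw [pow_add, mul_inv_rev, show w ^ i * w ^ d * r * ((w ^ d)⁻¹ * (w ^ i)⁻¹) =
        w ^ i * (w ^ d * r * (w ^ d)⁻¹) * (w ^ i)⁻¹ by group] at e
      have e' := mul_left_cancel (mul_right_cancel e)
      exact mul_inv_eq_iff_eq_mul.mp e'.symm
    have hcop : d.Coprime (orderOf w) := by
      refine Nat.Coprime.coprime_dvd_right (orderOf_dvd_of_pow_eq_one hw) ?_
      exact ((Nat.Prime.coprime_iff_not_dvd hp).mpr
        (fun hd => absurd (Nat.le_of_dvd (by omega) hd) (by omega))).symm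
    obtain ⟨m, hm⟩ := exists_pow_eq_self_of_coprime hcop
    exact h (hm ▸ hc.pow_left m)
  intro i hi j hj e
  rcases lt_trichotomy i j with h1 | h1 | h1
  · exact absurd e (key i j h1 hj)
  · exact h1
  · exact absurd e.symm (key j i h1 hi)

namespace TriSet

variable {p : ℕ} {D : Set G} (hD : TriSet p D)
include hD

theorem commute_trans {a b c : G} (ha : a ∈ D) (hb : b ∈ D) (hc : c ∈ D) (h1 : Commute a b)
    (h2 : Commute b c) : Commute a c := hD.trans b hb a ha c hc h1.symm h2

theorem cls_eq {a b : G} (ha : a ∈ D) (hb : b ∈ D) (h : Commute a b) : cls D a = cls D b := by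
  ext s
  exact ⟨fun hs => ⟨hs.1, hD.commute_trans hs.1 ha hb hs.2 h⟩,
    fun hs => ⟨hs.1, hD.commute_trans hs.1 hb ha hs.2 h.symm⟩⟩

theorem cls_conj {a : G} (g : G) :
    cls D (g * a * g⁻¹) = (fun s => g * s * g⁻¹) '' cls D a := by
  ext s
  constructor
  · intro hs
    refine ⟨g⁻¹ * s * g, ⟨?_, ?_⟩, by group⟩
    · have := hD.conj g⁻¹ s hs.1
      rwa [inv_inv] at this
    · have := commute_conj hs.2 g⁻¹
      simp only [inv_inv] at this
      convert this using 1
      group
  · rintro ⟨t, ht, rfl⟩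
    exact ⟨hD.conj g t ht.1, commute_conj ht.2 g⟩

theorem ncard_cls_eq {a b : G} (ha : a ∈ D) (hb : b ∈ D) :
    (cls D a).ncard = (cls D b).ncard := by
  obtain ⟨g, rfl⟩ := isConj_iff.mp (hD.conjugate a ha b hb)
  rw [hD.cls_conj g, Set.ncard_image_of_injective]
  intro s t h
  exact mul_left_cancel (mul_right_cancel h)

theorem commute_cls {a s t : G} (ha : a ∈ D) (hs : s ∈ cls D a) (ht : t ∈ cls D a) :
    Commute s t := hD.commute_trans hs.1 ha ht.1 hs.2 ht.2.symm

/-- A class with `1` is a subgroup. -/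
def clsGroup {a : G} (ha : a ∈ D) : Subgroup G where
  carrier := insert 1 (cls D a)
  one_mem' := Set.mem_insert _ _
  mul_mem' := by
    rintro s t (rfl | hs) ht
    · rwa [one_mul]
    rcases ht with rfl | ht
    · rw [mul_one]; exact Or.inr hs
    by_cases h : s = t
    · subst h; exact Or.inl (hD.sq hs.1)
    · exact Or.inr ⟨hD.tri s hs.1 t ht.1 (hD.commute_cls ha hs ht) h, hs.2.mul_left ht.2⟩
  inv_mem' := by
    rintro s (rfl | hs)
    · rw [inv_one]; exact Or.inl rfl
    · rw [hD.inv_eq hs.1]; exact Or.inr hs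

theorem mem_clsGroup {a : G} (ha : a ∈ D) {s : G} :
    s ∈ hD.clsGroup ha ↔ s = 1 ∨ s ∈ cls D a := Iff.rfl

theorem card_clsGroup [Finite G] {a : G} (ha : a ∈ D) :
    Nat.card (hD.clsGroup ha) = (cls D a).ncard + 1 := by
  rw [← Set.ncard_insert_of_notMem (a := (1 : G)) (s := cls D a)
    (fun h => hD.ne_one h.1 rfl)]
  exact Nat.card_coe_set_eq _

theorem exists_card_add_one [Finite G] {a : G} (ha : a ∈ D) :
    ∃ m : ℕ, (cls D a).ncard + 1 = 2 ^ m := by
  have : Fact (Nat.Prime 2) := ⟨Nat.prime_two⟩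
  have h : IsPGroup 2 (hD.clsGroup ha) := by
    refine fun s => ⟨1, ?_⟩
    rw [pow_one, pow_two]
    apply Subtype.ext
    rcases s.2 with e | e
    · simp [e]
    · exact hD.sq e.1
  obtain ⟨m, hm⟩ := IsPGroup.iff_card.mp h
  exact ⟨m, by rw [← hD.card_clsGroup ha, hm]⟩

theorem three_le_card [Finite G] {a : G} (ha : a ∈ D) : 3 ≤ (cls D a).ncard := by
  obtain ⟨b, hb, hne, hab⟩ := hD.pair a ha
  have hsub : ({a, b, a * b} : Set G) ⊆ cls D a := by
    rintro s (rfl | rfl | rfl)
    · exact ⟨ha, Commute.refl _⟩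
    · exact ⟨hb, hab.symm⟩
    · exact ⟨hD.tri a ha b hb hab hne, (Commute.refl a).mul_left hab.symm⟩
  have h : ({a, b, a * b} : Set G).ncard = 3 := by
    refine Set.ncard_eq_three.mpr ⟨a, b, a * b, hne, ?_, ?_, rfl⟩
    · intro e; exact hD.ne_one hb (by simpa using e)
    · intro e; exact hD.ne_one ha (by simpa using e)
  exact h ▸ Set.ncard_le_ncard hsub (Set.toFinite _)

/-- The elements fixing the class of `r`. -/
def stab [Finite G] {r : G} (hr : r ∈ D) : Subgroup G where
  carrier := {g | Commute (g * r * g⁻¹) r}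
  one_mem' := by simp
  mul_mem' := by
    intro g h hg hh
    show Commute (g * h * r * (g * h)⁻¹) r
    rw [show g * h * r * (g * h)⁻¹ = g * (h * r * h⁻¹) * g⁻¹ by group]
    exact hD.commute_trans (hD.conj g _ (hD.conj h r hr)) (hD.conj g r hr) hr (commute_conj hh g) hg
  inv_mem' := by
    intro g hg
    have := commute_conj hg g⁻¹
    simp only [mul_assoc, inv_inv, inv_mul_cancel_left, inv_mul_cancel, mul_one] at this
    simpa only [Set.mem_setOf_eq, mul_assoc, inv_inv] using this.symm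

theorem mem_stab [Finite G] {r : G} (hr : r ∈ D) {g : G} :
    g ∈ hD.stab hr ↔ Commute (g * r * g⁻¹) r := Iff.rfl

theorem stab_mono [Finite G] {r s : G} (hr : r ∈ D) (hs : s ∈ D) (h : Commute r s) {g : G}
    (hg : g ∈ hD.stab hr) : g ∈ hD.stab hs :=
  hD.commute_trans (hD.conj g s hs) (hD.conj g r hr) hs (commute_conj h.symm g)
    (hD.commute_trans (hD.conj g r hr) hr hs hg h)

theorem conj_mem_cls [Finite G] {r g s : G} (hr : r ∈ D) (hg : g ∈ hD.stab hr)
    (hs : s ∈ cls D r) : g * s * g⁻¹ ∈ cls D r :=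
  ⟨hD.conj g s hs.1,
    hD.commute_trans (hD.conj g s hs.1) (hD.conj g r hr) hr (commute_conj hs.2 g) hg⟩

/-- An element of order dividing `p` fixes all of a small class. -/
theorem commute_of_small [Finite G] {r w : G} (hr : r ∈ D) (hw : w ^ p = 1)
    (hws : w ∈ hD.stab hr) (hk : (cls D r).ncard < p) {s : G} (hs : s ∈ cls D r) :
    Commute w s := by
  by_contra hn
  have h := conj_pow_injOn hD.prime hw hn
  have hsub : (fun i : ℕ => w ^ i * s * (w ^ i)⁻¹) '' Set.Iio p ⊆ cls D r := by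
    rintro _ ⟨i, -, rfl⟩
    exact hD.conj_mem_cls hr (pow_mem hws i) hs
  have := Set.ncard_le_ncard hsub (Set.toFinite _)
  rw [h.ncard_image, Set.ncard_Iio_nat] at this
  omega

/-- On a class of `p` members an element of order `p` is trivial or regular. -/
theorem orbit_eq [Finite G] {r w : G} (hr : r ∈ D) (hw : w ^ p = 1)
    (hws : w ∈ hD.stab hr) (hk : (cls D r).ncard = p) {s : G} (hs : s ∈ cls D r)
    (hn : ¬ Commute w s) {t : G} (ht : t ∈ cls D r) :
    ∃ i < p, t = w ^ i * s * (w ^ i)⁻¹ := by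
  have h := conj_pow_injOn hD.prime hw hn
  have hsub : (fun i : ℕ => w ^ i * s * (w ^ i)⁻¹) '' Set.Iio p ⊆ cls D r := by
    rintro _ ⟨i, -, rfl⟩
    exact hD.conj_mem_cls hr (pow_mem hws i) hs
  have := Set.eq_of_subset_of_ncard_le hsub
    (by rw [h.ncard_image, Set.ncard_Iio_nat, hk]) (Set.toFinite _)
  obtain ⟨i, hi, e⟩ := this.symm ▸ ht
  exact ⟨i, hi, e.symm⟩

theorem not_commute_of_moved [Finite G] {r w : G} (hr : r ∈ D) (hw : w ^ p = 1)
    (hws : w ∈ hD.stab hr) (hk : (cls D r).ncard = p) {s : G} (hs : s ∈ cls D r)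
    (hn : ¬ Commute w s) {t : G} (ht : t ∈ cls D r) : ¬ Commute w t := by
  obtain ⟨i, -, rfl⟩ := hD.orbit_eq hr hw hws hk hs hn ht
  intro h
  apply hn
  have := commute_conj h (w ^ i)⁻¹
  simp only [inv_inv] at this
  rw [show (w ^ i)⁻¹ * w * w ^ i = w by
    rw [mul_assoc, (Commute.self_pow w i).eq, inv_mul_cancel_left]] at this
  convert this using 1
  group

/-! The sets `swapSet`. -/

theorem swap_symm {r q d : G} (hd : d ∈ swapSet D r q) : d ∈ swapSet D q r := by
  refine ⟨hd.1, ?_⟩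
  have := commute_conj hd.2 d
  rw [hD.inv_eq hd.1] at this
  simp only [mul_assoc, hD.cancel hd.1, hD.sq hd.1, mul_one] at this
  simp only [mul_assoc]
  exact this.symm

theorem swap_congr {r r' q q' d : G} (hr : r ∈ D) (hr' : r' ∈ D) (hq : q ∈ D) (hq' : q' ∈ D)
    (h : Commute r r') (h' : Commute q q') (hd : d ∈ swapSet D r q) : d ∈ swapSet D r' q' := by
  refine ⟨hd.1, ?_⟩
  have h1 := commute_conj h.symm d
  rw [hD.inv_eq hd.1] at h1
  have m := hD.mem_self hd.1 hr'
  exact hD.commute_trans m hq hq'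
    (hD.commute_trans m (hD.mem_self hd.1 hr) hq h1 hd.2) h'

theorem swap_not_commute {r q d : G} (hr : r ∈ D) (hrq : ¬ Commute r q)
    (hd : d ∈ swapSet D r q) : ¬ Commute d r := by
  intro h
  have := hd.2
  rw [(hD.conj_eq_iff hd.1 r).mpr h] at this
  exact hrq this

theorem swap_not_commute_image {r q d : G} (hr : r ∈ D) (hrq : ¬ Commute r q)
    (hd : d ∈ swapSet D r q) : ¬ Commute (d * r * d) r :=
  hD.not_commute_conj hd.1 hr (hD.swap_not_commute hr hrq hd)

theorem swap_nonempty {r q : G} (hr : r ∈ D) (hq : q ∈ D) (hrq : ¬ Commute r q) :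
    ∃ d, d ∈ swapSet D r q := by
  obtain ⟨c, hc, e⟩ := hD.exists_mid hr hq hrq
  exact ⟨c, hc, e ▸ Commute.refl q⟩

theorem ncard_swap [Finite G] {r q : G} (hr : r ∈ D) (hq : q ∈ D) (hrq : ¬ Commute r q) :
    (swapSet D r q).ncard = (cls D q).ncard := by
  refine Set.ncard_congr (fun d _ => d * r * d) (fun d hd => ⟨hD.mem_self hd.1 hr, hd.2⟩) ?_ ?_
  · intro d e hd he h
    exact hD.unique hr hd.1 he.1 (fun h' => hD.swap_not_commute hr hrq hd h'.symm) h
  · intro t ht
    have hrt : ¬ Commute r t := fun h => hrq (hD.commute_trans hr ht.1 hq h ht.2)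
    obtain ⟨c, hc, e⟩ := hD.exists_mid hr ht.1 hrt
    exact ⟨c, ⟨hc, e ▸ ht.2⟩, e⟩

theorem swap_mul_mem_stab [Finite G] {r q d e : G} (hr : r ∈ D) (hd : d ∈ swapSet D r q)
    (he : e ∈ swapSet D r q) (hq : q ∈ D) : d * e ∈ hD.stab hr := by
  show Commute (d * e * r * (d * e)⁻¹) r
  rw [mul_inv_rev, hD.inv_eq hd.1, hD.inv_eq he.1,
    show d * e * r * (e * d) = d * (e * r * e) * d by simp only [mul_assoc]]
  have h := commute_conj he.2 d
  rw [hD.inv_eq hd.1] at h
  exact hD.commute_trans (hD.mem_self hd.1 (hD.mem_self he.1 hr)) (hD.mem_self hd.1 hq) hr h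
    (hD.swap_symm hd).2

/-- Distinct members of a swap set do not commute. -/
theorem swap_pairwise [Finite G] {r q d e : G} (hr : r ∈ D) (hq : q ∈ D) (hrq : ¬ Commute r q)
    (hd : d ∈ swapSet D r q) (he : e ∈ swapSet D r q) (hne : d ≠ e) : ¬ Commute d e := by
  intro h
  have hde := hD.tri d hd.1 e he.1 h hne
  have h1 : Commute (d * e * r * (d * e)⁻¹) r := hD.swap_mul_mem_stab hr hd he hq
  rw [hD.inv_eq hde] at h1
  have h2 : Commute (d * e) r := hD.commute_of_commute_conj hde hr h1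
  exact hD.swap_not_commute hr hrq hd
    (hD.commute_trans hd.1 hde hr ((Commute.refl d).mul_right h) h2)

/-- A member maps a swap set element to a swap set element. -/
theorem swap_mul_stab [Finite G] {r q d h : G} (hr : r ∈ D) (hq : q ∈ D)
    (hd : d ∈ swapSet D r q) (hh : h ∈ hD.stab hr) (hdh : d * h ∈ D) :
    d * h ∈ swapSet D r q := by
  refine ⟨hdh, ?_⟩
  have e : d * h * r * (d * h) = d * (h * r * h⁻¹) * d := by
    have := hD.inv_eq hdh
    rw [mul_inv_rev, hD.inv_eq hd.1] at this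
    rw [show d * (h * r * h⁻¹) * d = d * h * r * (h⁻¹ * d) by simp only [mul_assoc], this]
  rw [e]
  have h1 := commute_conj hh d
  rw [hD.inv_eq hd.1] at h1
  exact hD.commute_trans (hD.mem_self hd.1 (hD.conj h r hr)) (hD.mem_self hd.1 hr) hq h1 hd.2

theorem swap_conj [Finite G] {r q d h : G} (hr : r ∈ D) (hq : q ∈ D)
    (hd : d ∈ swapSet D r q) (h1 : h ∈ hD.stab hr) (h2 : h ∈ hD.stab hq) :
    h * d * h⁻¹ ∈ swapSet D r q := by
  refine ⟨hD.conj h d hd.1, ?_⟩
  have hr' := hD.conj_mem_cls hr (inv_mem h1) (⟨hr, Commute.refl r⟩ : r ∈ cls D r)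
  rw [inv_inv] at hr'
  have h3 := hD.swap_congr hr hr'.1 hq hq hr'.2.symm (Commute.refl q) hd
  have h4 := commute_conj h3.2 h
  rw [show h * (d * (h⁻¹ * r * h) * d) * h⁻¹ = h * d * h⁻¹ * r * (h * d * h⁻¹) by group] at h4
  exact hD.commute_trans (hD.mem_self (hD.conj h d hd.1) hr) (hD.conj h q hq) hq h4 h2

end TriSet

end CfsgLib.RankThreeClass
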