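import Cfsg.Agent.Lib.RankThreeClass.Basic

/-!
# Products of commuting members fixing all classes generate a normal 2-subgroup
-/

set_option autoImplicit false

namespace CfsgLib.RankThreeClass

variable {G : Type*} [Group G]

/-- Commuting is transitive on `D`. -/
def CommTrans (D : Set G) : Prop :=
  ∀ s ∈ D, ∀ a ∈ D, ∀ b ∈ D, Commute s a → Commute s b → Commute a b

namespace PSet

variable {p : ℕ} {D : Set G} (hD : PSet p D) (htr : CommTrans D)
include hD htr

/-- The elements moving every member only inside its class. -/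
def classKernel [Finite G] : Subgroup G where
  carrier := {k | ∀ d ∈ D, Commute (k * d * k⁻¹) d}
  one_mem' := fun d _ => by simp
  mul_mem' := by
    intro k l hk hl d hd
    have h1 := hl d hd
    have h2 := hk _ (hD.conj l d hd)
    rw [show k * l * d * (k * l)⁻¹ = k * (l * d * l⁻¹) * k⁻¹ by group]
    exact htr _ (hD.conj l d hd) _ (hD.conj k _ (hD.conj l d hd)) _ hd h2.symm h1
  inv_mem' := by
    intro k hk d hd
    have := hk _ (hD.conj k⁻¹ d hd)
    simp only [mul_assoc, mul_inv_cancel_left, mul_inv_cancel, mul_one, inv_inv] at this ⊢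
    exact this.symm

theorem classKernel_normal [Finite G] : (hD.classKernel htr).Normal := by
  refine ⟨fun k hk g d hd => ?_⟩
  have := commute_conj (hk _ (hD.conj g⁻¹ d hd)) g
  simp only [inv_inv] at this
  convert this using 1 <;> group

theorem sq_closure_class {a : G} (ha : a ∈ D) {w : G}
    (hw : w ∈ Subgroup.closure {s | s ∈ D ∧ Commute s a}) : w * w = 1 := by
  set X := {s : G | s ∈ D ∧ Commute s a}
  have h1 : Subgroup.closure X ≤ Subgroup.centralizer X := by
    rw [Subgroup.closure_le]
    intro s hs u hu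
    exact htr _ ha _ hu.1 _ hs.1 hu.2.symm hs.2.symm
  have h2 : Subgroup.closure X ≤ Subgroup.centralizer (Subgroup.closure X : Set G) := by
    rw [Subgroup.closure_le]
    intro s hs u hu
    exact (h1 hu s hs).symm
  induction hw using Subgroup.closure_induction with
  | mem s hs => exact hD.sq hs.1
  | one => rw [one_mul]
  | mul u v hu hv ihu ihv =>
    rw [Commute.mul_mul_mul_comm (h2 hu v hv : Commute v u), ihu, ihv, one_mul]
  | inv u _ ihu => rw [← mul_inv_rev, ihu, inv_one]

/-- If the product of a commuting pair moves every member only inside its class, it lies in a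
normal 2-subgroup with the same property. -/
theorem exists_normal_two [Finite G] {a b : G} (ha : a ∈ D) (hb : b ∈ D) (hab : Commute a b)
    (ht : ∀ d ∈ D, Commute (a * b * d * (a * b)⁻¹) d) :
    ∃ N : Subgroup G, N.Normal ∧ IsPGroup 2 N ∧ a * b ∈ N ∧
      ∀ n ∈ N, ∀ d ∈ D, Commute (n * d * n⁻¹) d := by
  classical
  have : Fact (Nat.Prime 2) := ⟨Nat.prime_two⟩
  set K := hD.classKernel htr
  have hKn : K.Normal := hD.classKernel_normal htr
  have : Nonempty (Sylow 2 K) := inferInstance
  obtain ⟨P⟩ := this
  set M := (P : Subgroup K).map K.subtype with hM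
  have hsub : ∀ c ∈ D, ∀ w ∈ Subgroup.closure {s | s ∈ D ∧ Commute s c}, w ∈ K → w ∈ M := by
    intro c hc w hw hwK
    set A := (Subgroup.closure {s | s ∈ D ∧ Commute s c}).subgroupOf K with hA
    have hAn : A.Normal := by
      refine ⟨fun x hx k => ?_⟩
      rw [hA, Subgroup.mem_subgroupOf] at hx ⊢
      have hle : Subgroup.closure {s | s ∈ D ∧ Commute s c} ≤
          (Subgroup.closure {s | s ∈ D ∧ Commute s c}).comap
            (MulAut.conj (k : G)).toMonoidHom := by
        rw [Subgroup.closure_le]
        intro s hs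
        refine Subgroup.subset_closure ⟨hD.conj _ s hs.1, ?_⟩
        exact htr s hs.1 _ (hD.conj _ s hs.1) c hc (k.2 s hs.1).symm hs.2
      exact hle hx
    have hAp : IsPGroup 2 A := fun x => ⟨1, by
      rw [pow_one, pow_two]
      exact Subtype.ext (hD.sq_closure_class htr hc (Subgroup.mem_subgroupOf.mp x.2))
        |> Subtype.ext⟩
    have hle : A ≤ (P : Subgroup K) := by
      have hsup : IsPGroup 2 (A ⊔ (P : Subgroup K) : Subgroup K) :=
        hAp.to_sup_of_normal_left P.isPGroup'
      exact le_sup_left.trans (le_of_eq (P.is_maximal' hsup le_sup_right))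
    exact ⟨⟨w, hwK⟩, hle (Subgroup.mem_subgroupOf.mpr hw), rfl⟩
  have hNM : Subgroup.normalClosure {a * b} ≤ M := by
    show Subgroup.closure (Group.conjugatesOfSet {a * b}) ≤ M
    rw [Subgroup.closure_le]
    intro w hw
    obtain ⟨t, rfl, htw⟩ := Group.mem_conjugatesOfSet_iff.mp hw
    obtain ⟨g, rfl⟩ := isConj_iff.mp htw
    refine hsub (g * a * g⁻¹) (hD.conj g a ha) _ ?_ (hKn.conj_mem _ ht g)
    rw [← conj_mul]
    exact mul_mem (Subgroup.subset_closure ⟨hD.conj g a ha, Commute.refl _⟩)
      (Subgroup.subset_closure ⟨hD.conj g b hb, commute_conj hab.symm g⟩)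
  refine ⟨Subgroup.normalClosure {a * b}, Subgroup.normalClosure_normal,
    (P.isPGroup'.map K.subtype).to_le hNM, Subgroup.subset_normalClosure rfl, fun n hn => ?_⟩
  obtain ⟨k, -, rfl⟩ := hNM hn
  exact k.2

end PSet

end CfsgLib.RankThreeClass
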